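import Cfsg.Agent.Lib.CosetEnum.Fi22Norm.Defs

/-!
# Checks on coordinates in a group generated by commuting transpositions
-/

set_option autoImplicit false

namespace Cfsg.Lib.CosetEnum.Fi22Two

open Fi22Norm (Test)

/-- The word of the transposition of a point of the clique. -/
def cliqueWord (moving : List (List Nat)) (j : Nat) : List Nat := conjWord (moving.getD j [])

/-- The word of a coordinate vector. -/
def coordWord (moving : List (List Nat)) (bs : List Nat) : Nat → Nat → List Nat
  | 0, _ => []
  | k + 1, v => bif v.testBit k then cliqueWord moving (bs.getD k 0) ++ coordWord moving bs k v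
      else coordWord moving bs k v

/-- The image of a coordinate vector under a permutation of the clique. -/
def act (bs vec h : List Nat) : Nat → Nat → Nat
  | 0, _ => 0
  | k + 1, v => bif v.testBit k then Nat.xor (act bs vec h k v) (vec.getD (h.getD (bs.getD k 0) 0) 0)
      else act bs vec h k v

/-- Composition of permutations given by lists. -/
def comp (g h : List Nat) : List Nat := (List.range 22).map fun i => g.getD (h.getD i 0) 0

/-- The identity list. -/
def idPerm : List Nat := List.range 22

/-- A list permutation sends the clique as a word does. -/
noncomputable def permOK (Z : Tab) (k : Nat) (clique : List Nat) (w h : List Nat) : Bool :=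
  (w.all fun g => Nat.blt g k) && (List.range 22).all fun i => Nat.blt (h.getD i 0) 22 &&
    Nat.beq (twalk Z k w (clique.getD i 0)) (clique.getD (h.getD i 0) 0)

/-- A test of the plain form. -/
def mkTest (t : List (List Nat) × List Nat × Nat) : Test := ⟨t.1, t.2.1, t.2.2⟩

/-- A product of commuting transpositions moves a point of a generator. -/
noncomputable def movesOK (Z : Tab) (k : Nat) (pts : List Nat) (w : List Nat) (g : Nat) : Bool :=
  Nat.blt g k && (w.all fun a => Nat.blt a k) && !(Nat.beq (twalk Z k w (pts.getD g 0)) (pts.getD g 0))

end Cfsg.Lib.CosetEnum.Fi22Two
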