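import Cfsg.Agent.Lib.CosetEnum.Fi22U62.Data
import Cfsg.Agent.Lib.CosetEnum.Fi22Out.Data
import Cfsg.Agent.Lib.CosetEnum.Fi22Norm.Data
import Cfsg.Agent.Lib.CosetEnum.Trans.DefsSame
import Cfsg.Agent.Lib.CosetEnum.Fi22Two.Defs
import Cfsg.Agent.Lib.CosetEnum.Fi22Two.Data

/-! Kernel checks for the Sylow 2-subgroup of Fi22. -/

set_option autoImplicit false
set_option maxRecDepth 30000

namespace Cfsg.Lib.CosetEnum.Fi22Two

open Fi22Norm (moves testsOK candOK spanOK digit)
open Fi22U62 (tabP)
open Fi22Out (pts)

theorem clique_moving : ((List.range 22).all fun i => ((moving.getD i []).all fun g => Nat.blt g 9) &&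
    Nat.beq (twalk tabP 9 (moving.getD i []) (pts.getD 0 0)) (clique.getD i 0) &&
    Nat.blt (clique.getD i 0) 3510) = true := by decide +kernel

theorem clique_nodup : clique.Nodup ∧ clique.length = 22 ∧ vec.Nodup := by decide +kernel

theorem clique_comm : ((List.range 22).all fun i => (List.range 22).all fun j =>
    Nat.beq (twalk tabP 9 (cliqueWord moving i) (clique.getD j 0)) (clique.getD j 0)) = true := by
  decide +kernel

theorem basis_ok : ((List.range 10).all fun k => Nat.blt (basisIdx.getD k 0) 22 &&
    Nat.beq (vec.getD (basisIdx.getD k 0) 0) (2 ^ k)) = true := by decide +kernel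

theorem vec_ok : ((List.range 22).all fun j => Nat.blt (vec.getD j 0) 1024 &&
    sameOK tabP 9 pts (cliqueWord moving j) (coordWord moving basisIdx 10 (vec.getD j 0))) = true := by
  decide +kernel

theorem witness_ok : ((List.range 1023).all fun v =>
    movesOK tabP 9 pts (coordWord moving basisIdx 10 (v + 1)) (digit witness (v + 1))) = true := by
  decide +kernel

theorem gens_ok : ((List.range 7).all fun i => permOK tabP 9 clique (gens.getD i []) (genPerm.getD i [])) = true ∧
    gens.length = 7 ∧ genPerm.length = 7 := by decide +kernel

theorem closed_ok : perms.contains idPerm = true ∧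
    (genPerm.all fun g => perms.all fun h => perms.contains (comp g h)) = true := by decide +kernel

theorem perms_ok : perms.Nodup ∧ perms.length = 128 := by decide +kernel

theorem permWord_ok : ((List.range 128).all fun i => (permWord.getD i []).all (fun j => Nat.blt j 7) &&
    permOK tabP 9 clique (prodWord gens (permWord.getD i [])) (perms.getD i [])) = true := by decide +kernel

theorem invols_ok : (perms.all fun h => !(comp h h == idPerm) || h == idPerm || invols.contains h) = true := by
  decide +kernel

theorem fixed_ok : ((List.range 35).all fun i => (List.range 1024).all fun v =>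
    !(Nat.beq (act basisIdx vec (invols.getD i []) 10 v) v) || (fixedVec.getD i []).contains v) = true ∧
    invols.length = 35 ∧ (fixedVec.all fun l => decide (l.length ≤ 64)) = true ∧ fixedVec.length = 35 := by
  decide +kernel

theorem pair_ok : ((List.range 35).all fun i => (List.range 35).all fun j => Nat.beq i j ||
    !(comp (invols.getD i []) (invols.getD j []) == comp (invols.getD j []) (invols.getD i [])) ||
    decide (((fixedVec.getD i []).filter fun v =>
      Nat.beq (act basisIdx vec (invols.getD j []) 10 v) v).length ≤ 32)) = true := by decide +kernel

theorem apart_ok : (apart.all fun p => Nat.blt p.1 35 && Nat.blt p.2 35 &&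
    !(comp (invols.getD p.1 []) (invols.getD p.2 []) == comp (invols.getD p.2 []) (invols.getD p.1 []))) = true ∧
    (apart.flatMap fun p => [invols.getD p.1 [], invols.getD p.2 []]).Nodup ∧ apart.length = 5 := by
  decide +kernel

theorem centre_tests : testsOK tabP 9 3510 moves ((List.range 10).map fun k => cliqueWord moving (basisIdx.getD k 0))
      (pointTests.map mkTest) point = true ∧
    candOK tabP 9 3510 moves ((List.range 10).map fun k => cliqueWord moving (basisIdx.getD k 0))
      (pointTests.map mkTest) pointCand 3510 0 = true ∧
    twalk tabP 9 move (pts.getD 0 0) = point ∧ (move.all fun g => Nat.blt g 9) = true ∧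
    pointCand.length = 32 := by decide +kernel

theorem last_tests : testsOK tabP 9 3510 moves
      (conjWord move :: (List.range 10).map fun k => cliqueWord moving (basisIdx.getD k 0))
      (lastTests.map mkTest) last = true ∧
    candOK tabP 9 3510 moves
      (conjWord move :: (List.range 10).map fun k => cliqueWord moving (basisIdx.getD k 0))
      (lastTests.map mkTest) lastCand 3510 0 = true ∧ lastCand.length = 32 := by decide +kernel

theorem last_span : (orbitWords.all fun u => u.all fun j => Nat.blt j 11) = true ∧
    spanOK tabP 9 3510 moves (orbitWords.map fun u => twalk tabP 9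
      (prodWord (conjWord move :: (List.range 10).map fun k => cliqueWord moving (basisIdx.getD k 0)) u) last)
      span ((List.range 9).map fun g => pts.getD g 0) = true := by decide +kernel

theorem clique_scan : scanOK tabP 9
    (((List.range 10).map fun k => (cliqueWord moving (basisIdx.getD k 0), true)))
    (elemN clique) 3510 0 = true := by decide +kernel

end Cfsg.Lib.CosetEnum.Fi22Two
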