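import Cfsg.Agent.Lib.CosetEnum.Fi22Two.Sylow
import Cfsg.Agent.Lib.Thompson.Transport
import Cfsg.Prelude.Def_FischerSpaces

/-!
# The Thompson subgroup of a Sylow 2-subgroup of Fi22
-/

set_option autoImplicit false
set_option linter.unusedSectionVars false

namespace Cfsg.Lib.CosetEnum.Fi22Two

open Fi22Norm (Fi22Tab)

variable {G : Type*} [Group G] [Finite G] {D : Set G} (T : Fi22Tab G D)

theorem thompson_twoGroup : Cfsg.thompsonSubgroupOf 2 (twoGroup T) = base T := by
  have hle := base_le T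
  have hEA : Cfsg.IsElementaryAbelian 2 ((base T).subgroupOf (twoGroup T)) :=
    Lib.Thompson.isEA_subgroupOf (base_elementary T) _
  have hcard : Nat.card ((base T).subgroupOf (twoGroup T)) = 1024 := by
    rw [Nat.card_congr (Subgroup.subgroupOfEquivOfLe hle).toEquiv, card_base]
  have key : ∀ B : Subgroup (twoGroup T), Cfsg.IsElementaryAbelian 2 B →
      B ≤ (base T).subgroupOf (twoGroup T) ∨ Nat.card B < 1024 := by
    intro B hB
    by_cases h : B.map (twoGroup T).subtype ≤ base T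
    · exact Or.inl fun x hx => h ⟨x, hx, rfl⟩
    · refine Or.inr ?_
      rw [← Subgroup.card_map_of_injective (twoGroup T).subtype_injective]
      exact small_of_ne T (Subgroup.map_subtype_le _) (Lib.Thompson.isEA_map _ hB) h
  have hset : Cfsg.maxElementaryAbelianSubgroups 2 (twoGroup T) = {(base T).subgroupOf (twoGroup T)} := by
    refine Set.eq_singleton_iff_unique_mem.2 ⟨⟨hEA, fun B hB => ?_⟩, fun B hB => ?_⟩
    · rcases key B hB with h | h
      · exact Subgroup.card_le_of_le h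
      · omega
    · have h1 := hB.2 _ hEA
      rcases key B hB.1 with h | h
      · exact Subgroup.eq_of_le_of_card_ge h h1
      · omega
  rw [Cfsg.thompsonSubgroupOf, Cfsg.thompsonSubgroup, hset, sSup_singleton, Subgroup.map_subgroupOf_eq_of_le hle]

theorem gen_conj (g : G) (i : ℕ) : gen (T.conj g) i = g * gen T i * g⁻¹ := T.conj_conjWord g _

theorem ev_conj (g : G) : ∀ k v, ev (T.conj g) k v = g * ev T k v * g⁻¹
  | 0, v => by simp [ev]
  | k + 1, v => by
    rw [ev, ev, ev_conj g k v, gen_conj]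
    split_ifs <;> group

theorem base_conj (g : G) : base (T.conj g) = (base T).map (MulAut.conj g).toMonoidHom := by
  ext x
  constructor
  · rintro ⟨v, hv, rfl⟩
    exact ⟨_, ⟨v, hv, rfl⟩, (ev_conj T g 10 v).symm⟩
  · rintro ⟨_, ⟨v, hv, rfl⟩, rfl⟩
    exact ⟨v, hv, ev_conj T g 10 v⟩

theorem twoGroup_conj (g : G) : twoGroup (T.conj g) = (twoGroup T).map (MulAut.conj g).toMonoidHom := by
  rw [twoGroup, twoGroup, MonoidHom.map_closure]
  congr 1
  ext x
  constructor
  · rintro (⟨j, hj, rfl⟩ | hx)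
    · exact ⟨_, Or.inl ⟨j, hj, rfl⟩, (T.conj_conjWord g _).symm⟩
    · rw [base_conj] at hx
      obtain ⟨y, hy, rfl⟩ := hx
      exact ⟨y, Or.inr hy, rfl⟩
  · rintro ⟨_, ⟨j, hj, rfl⟩ | hy, rfl⟩
    · exact Or.inl ⟨j, hj, T.conj_conjWord g _⟩
    · exact Or.inr (by rw [base_conj]; exact ⟨_, hy, rfl⟩)

include T in
/-- Some coordinates fit any Sylow 2-subgroup. -/
theorem exists_tab_sylow (S : Sylow 2 G) :
    ∃ T' : Fi22Tab G D, twoGroup T' = (S : Subgroup G) := by
  have hfac : (Nat.card G).factorization 2 = 17 := by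
    rw [T.card, show (2 ^ 17 * 3 ^ 9 * 5 ^ 2 * 7 * 11 * 13 : ℕ) = 2 ^ 17 * 492567075 by norm_num,
      Nat.factorization_mul (by norm_num) (by norm_num), Finsupp.add_apply,
      Nat.Prime.factorization_pow (by norm_num), Finsupp.single_eq_same,
      Nat.factorization_eq_zero_of_not_dvd (by norm_num), add_zero]
  have : Fact (Nat.Prime 2) := ⟨Nat.prime_two⟩
  let P : Sylow 2 G := Sylow.ofCard (twoGroup T) (by rw [card_twoGroup, hfac])
  obtain ⟨g, hg⟩ := MulAction.exists_smul_eq G P S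
  exact ⟨T.conj g, by rw [twoGroup_conj, ← hg]; rfl⟩

/-- The transpositions in a Sylow 2-subgroup lie among the twenty-two. -/
theorem mem_class_twoGroup (hD : Cfsg.IsThreeTranspositionSet D) {x : G} (hx : x ∈ D) (hxT : x ∈ twoGroup T) :
    ∃ i, ∃ h : i < 22, T.A.delta (P i h) = x := by
  obtain ⟨q, rfl⟩ := (T.A.isConj_iff_exists x).1 ((Set.ext_iff.1 T.class_eq x).2 hx)
  have hbase : T.A.delta q ∈ base T := by
    refine centralizer_base T _ fun k hk => ?_
    have hb := (basis_spec hk).1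
    have hg : gen T (basisIdx.getD k 0) ∈ D := by
      rw [← delta_P T hb]
      exact (Set.ext_iff.1 T.class_eq _).1 ((T.A.isConj_iff_exists _).2 ⟨_, rfl⟩)
    have h2 : IsPGroup 2 (twoGroup T) := IsPGroup.of_card (card_twoGroup T)
    obtain ⟨n, hn⟩ := h2 ⟨_, mul_mem hxT (base_le T (gen_mem T hb))⟩
    have hn' : (T.A.delta q * gen T (basisIdx.getD k 0)) ^ (2 ^ n) = 1 := congrArg Subtype.val hn
    have hsq : (T.A.delta q * gen T (basisIdx.getD k 0)) ^ 2 = 1 := by
      rcases hD.2 _ hx _ hg with h | h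
      · exact h
      · have h1 : orderOf (T.A.delta q * gen T (basisIdx.getD k 0)) = 1 :=
          Nat.eq_one_of_dvd_coprimes (Nat.Coprime.pow_left n (by norm_num : Nat.Coprime 2 3))
            (orderOf_dvd_of_pow_eq_one hn') (orderOf_dvd_of_pow_eq_one h)
        rw [orderOf_eq_one_iff.1 h1, one_pow]
    have ha : T.A.delta q * T.A.delta q = 1 := by
      rw [← pow_two, ← (hD.1 _ hx), pow_orderOf_eq_one]
    have hb2 := gen_sq T (i := basisIdx.getD k 0)
    generalize T.A.delta q = a at hsq ha ⊢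
    generalize gen T (basisIdx.getD k 0) = b at hsq hb2 ⊢
    rw [pow_two] at hsq
    show a * b = b * a
    rw [mul_eq_one_iff_eq_inv.1 hsq, mul_inv_rev, inv_eq_of_mul_eq_one_left ha, inv_eq_of_mul_eq_one_left hb2]
  obtain ⟨i, hi, rfl⟩ := delta_mem_base T hbase
  exact ⟨i, hi, rfl⟩

end Cfsg.Lib.CosetEnum.Fi22Two
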