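import Cfsg.Agent.Lib.CosetEnum.Fi22Two.Defs

/-!
# Checks on coordinates in the double cover
-/

set_option autoImplicit false

namespace Cfsg.Lib.CosetEnum.Fi22Two

/-- The parity of the first bits, placed at the top bit. -/
def parTop : Nat → Nat → Nat
  | 0, _ => 0
  | k + 1, v => bif v.testBit k then Nat.xor (parTop k v) 1024 else parTop k v

/-- The image of a vector under a permutation of the twenty-two, given their coordinates. -/
def actTop (bs tb h : List Nat) : Nat → Nat → Nat
  | 0, v => bif v.testBit 10 then 1024 else 0
  | k + 1, v => bif v.testBit k then Nat.xor (actTop bs tb h k v) (tb.getD (h.getD (bs.getD k 0) 0) 0)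
      else actTop bs tb h k v

/-- The image of a coordinate vector. -/
def act11 (bs tb h : List Nat) (v : Nat) : Nat := actTop bs tb h 10 v

/-- Coordinates are compatible with a permutation. -/
def compatOK (bs tb : List Nat) (h : List Nat) : Bool :=
  (List.range 22).all fun j => Nat.beq (act11 bs tb h (tb.getD j 0)) (tb.getD (h.getD j 0) 0)

/-- The possible coordinates of each of the twenty-two. -/
def choicesOf (bs vec : List Nat) : List (List Nat) :=
  (List.range 22).map fun j => bif bs.contains j then [vec.getD j 0] else [vec.getD j 0, Nat.xor (vec.getD j 0) 1024]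

/-- The changed sign. -/
def flipTable (vec tb : List Nat) : List Nat :=
  (List.range 22).map fun j => Nat.xor (Nat.xor (tb.getD j 0) 1024) (parTop 10 (vec.getD j 0))

/-- The members of an orbit list are reached from earlier ones. -/
def stepsOK (bs tb : List Nat) (hs : List (List Nat)) (orb : List Nat) : List (Nat × Nat) → Nat → Bool
  | [], i => Nat.beq i orb.length
  | (p, k) :: t, i => Nat.blt p i && Nat.blt k hs.length && Nat.blt i orb.length &&
      Nat.beq (act11 bs tb (hs.getD k []) (orb.getD p 0)) (orb.getD i 0) && stepsOK bs tb hs orb t (i + 1)

/-- Append images that are new. -/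
def addImages (bs tb : List Nat) (hs : List (List Nat)) (L : List Nat) : List Nat :=
  (L.flatMap fun v => hs.map fun h => act11 bs tb h v).foldl
    (fun R w => bif R.contains w then R else R ++ [w]) L

/-- Repeated images of a start, until there are five. -/
def growFive (bs tb : List Nat) (hs : List (List Nat)) : Nat → List Nat → List Nat
  | 0, L => L
  | f + 1, L => bif Nat.ble 5 L.length then L else growFive bs tb hs f (addImages bs tb hs L)

/-- The set of a list as bits. -/
def maskOf : List Nat → Nat
  | [] => 0
  | v :: l => Nat.lor (Nat.shiftLeft 1 v) (maskOf l)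

end Cfsg.Lib.CosetEnum.Fi22Two
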