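import Cfsg.Agent.Lib.CosetEnum.Fi22Two.ChecksTwo
import Cfsg.Agent.Lib.CosetEnum.Fi22Two.ChecksOrbit
import Cfsg.Agent.Lib.CosetEnum.Trans.Basic
import Mathlib

/-!
# The five classes of coordinate vectors
-/

set_option autoImplicit false
set_option maxRecDepth 30000

namespace Cfsg.Lib.CosetEnum.Fi22Two

/-- The classes. -/
def classList : List (List ℕ) := [orbPos, orbNeg, orbPair, orbPairNeg, orbRest]

theorem testBit_maskOf : ∀ (l : List ℕ) (i : ℕ), (maskOf l).testBit i = true ↔ i ∈ l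
  | [], i => by simp [maskOf]
  | v :: l, i => by
    show (Nat.shiftLeft 1 v ||| maskOf l).testBit i = true ↔ _
    rw [Nat.testBit_or, Bool.or_eq_true, testBit_maskOf l i, List.mem_cons]
    refine or_congr_left ?_
    show ((1 <<< v : ℕ).testBit i = true) ↔ i = v
    rw [Nat.one_shiftLeft, Nat.testBit_two_pow, decide_eq_true_eq, eq_comm]

theorem all_nodup : (0 :: 1024 :: classList.flatten).Nodup ∧
    ∀ v, v ∈ 0 :: 1024 :: classList.flatten ↔ v < 2048 := by
  have e : classList.flatten = orbPos ++ orbNeg ++ orbPair ++ orbPairNeg ++ orbRest := by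
    simp [classList, List.append_assoc]
  have hiff : ∀ v, v ∈ 0 :: 1024 :: classList.flatten ↔ v < 2048 := by
    intro v
    obtain ⟨M, hM⟩ : ∃ M, M = maskOf (0 :: 1024 :: classList.flatten) := ⟨_, rfl⟩
    have h := cover_mask
    rw [← e, ← hM] at h
    rw [← testBit_maskOf, ← hM, show M = 2 ^ 2048 - 1 from Nat.eq_sub_of_add_eq h, Nat.testBit_two_pow_sub_one,
      decide_eq_true_eq]
  refine ⟨?_, hiff⟩
  have hsub : List.range 2048 ⊆ 0 :: 1024 :: classList.flatten := fun v hv => (hiff v).2 (List.mem_range.1 hv)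
  have hlen : (0 :: 1024 :: classList.flatten).length = 2048 := by
    obtain ⟨h1, h2, h3, h4, h5⟩ := orbit_lengths
    simp [e, h1, h2, h3, h4, h5]
  exact (((List.nodup_range (n := 2048)).subperm hsub).perm_of_length_le (by rw [hlen]; simp)).nodup_iff.1
    List.nodup_range

theorem lt_of_mem {l : List ℕ} (hl : l ∈ classList) {v : ℕ} (hv : v ∈ l) : v < 2048 ∧ v ≠ 0 ∧ v ≠ 1024 := by
  obtain ⟨hn, hiff⟩ := all_nodup
  have hm : v ∈ classList.flatten := List.mem_flatten.2 ⟨l, hl, hv⟩
  refine ⟨(hiff v).1 (by simp [hm]), ?_, ?_⟩ <;> rintro rfl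
  · exact (List.nodup_cons.1 hn).1 (by simp [hm])
  · exact (List.nodup_cons.1 (List.nodup_cons.1 hn).2).1 hm

theorem exists_class {v : ℕ} (h : v < 2048) (h0 : v ≠ 0) (h1 : v ≠ 1024) : ∃ l ∈ classList, v ∈ l := by
  have := (all_nodup.2 v).2 h
  simp only [List.mem_cons, h0, h1, false_or, List.mem_flatten] at this
  exact this

theorem class_nodup {l : List ℕ} (hl : l ∈ classList) : l.Nodup :=
  (List.nodup_flatten.1 (List.nodup_cons.1 (List.nodup_cons.1 all_nodup.1).2).2).1 l hl

theorem class_unique {l l' : List ℕ} (hl : l ∈ classList) (hl' : l' ∈ classList) {v : ℕ} (hv : v ∈ l)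
    (hv' : v ∈ l') : l = l' := by
  by_contra hne
  haveI : Std.Symm (α := List ℕ) List.Disjoint := ⟨fun a b h => List.Disjoint.symm h⟩
  exact ((List.nodup_flatten.1 (List.nodup_cons.1 (List.nodup_cons.1 all_nodup.1).2).2).2.forall
    hl hl' hne) hv hv'

theorem pos_mem : orbPos ∈ classList ∧ orbNeg ∈ classList ∧ orbPair ∈ classList ∧ orbPairNeg ∈ classList ∧
    orbRest ∈ classList := by simp [classList]

theorem coord_low {j : ℕ} (hj : j < 22) : coord.getD j 0 % 1024 = vec.getD j 0 := by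
  have h := coord_compat.2
  simp only [List.all_eq_true, List.mem_range, Bool.and_eq_true, Nat.beq_eq] at h
  exact (h j hj).2

theorem low_xor_top (v : ℕ) : (v ^^^ 1024) % 1024 = v % 1024 := by
  rw [show (1024 : ℕ) = 2 ^ 10 from rfl, Nat.xor_mod_two_pow, Nat.mod_self, Nat.xor_zero]

theorem mem_pos {v : ℕ} : v ∈ orbPos ↔ ∃ j < 22, v = coord.getD j 0 := by
  constructor
  · intro hv
    have h := List.all_eq_true.1 single_form.1 v hv
    simp only [List.any_eq_true, List.mem_range, Nat.beq_eq] at h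
    obtain ⟨j, hj, e⟩ := h
    exact ⟨j, hj, e.symm⟩
  · rintro ⟨j, hj, rfl⟩
    have h := List.all_eq_true.1 pos_neg_ok j (List.mem_range.2 hj)
    rw [Bool.and_eq_true] at h
    simpa using h.1

theorem mem_neg {v : ℕ} : v ∈ orbNeg ↔ ∃ j < 22, v = coord.getD j 0 ^^^ 1024 := by
  constructor
  · intro hv
    have h := List.all_eq_true.1 single_form.2 v hv
    simp only [List.any_eq_true, List.mem_range, Nat.beq_eq] at h
    obtain ⟨j, hj, e⟩ := h
    exact ⟨j, hj, e.symm⟩
  · rintro ⟨j, hj, rfl⟩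
    have h := List.all_eq_true.1 pos_neg_ok j (List.mem_range.2 hj)
    rw [Bool.and_eq_true] at h
    have := h.2
    rw [List.contains_eq_mem, decide_eq_true_eq] at this
    exact this

theorem mem_pair {v : ℕ} : v ∈ orbPair ↔ ∃ i < 22, ∃ j < i, v = coord.getD i 0 ^^^ coord.getD j 0 := by
  constructor
  · intro hv
    have h := List.all_eq_true.1 pair_form.1 v hv
    simp only [List.any_eq_true, List.mem_range, Nat.beq_eq] at h
    obtain ⟨i, hi, j, hj, e⟩ := h
    exact ⟨i, hi, j, hj, e.symm⟩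
  · rintro ⟨i, hi, j, hj, rfl⟩
    have h := List.all_eq_true.1 (List.all_eq_true.1 pair_in i (List.mem_range.2 hi)) j (List.mem_range.2 hj)
    rw [Bool.and_eq_true] at h
    have := h.1
    rw [List.contains_eq_mem, decide_eq_true_eq] at this
    exact this

theorem mem_pairNeg {v : ℕ} :
    v ∈ orbPairNeg ↔ ∃ i < 22, ∃ j < i, v = coord.getD i 0 ^^^ coord.getD j 0 ^^^ 1024 := by
  constructor
  · intro hv
    have h := List.all_eq_true.1 pair_form.2 v hv
    simp only [List.any_eq_true, List.mem_range, Nat.beq_eq] at h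
    obtain ⟨i, hi, j, hj, e⟩ := h
    exact ⟨i, hi, j, hj, e.symm⟩
  · rintro ⟨i, hi, j, hj, rfl⟩
    have h := List.all_eq_true.1 (List.all_eq_true.1 pair_in i (List.mem_range.2 hi)) j (List.mem_range.2 hj)
    rw [Bool.and_eq_true] at h
    have := h.2
    rw [List.contains_eq_mem, decide_eq_true_eq] at this
    exact this

theorem vec_inj {i j : ℕ} (hi : i < 22) (hj : j < 22) (h : vec.getD i 0 = vec.getD j 0) : i = j := by
  have hl : vec.length = 22 := by decide +kernel
  rw [List.getD_eq_getElem _ _ (hl.symm ▸ hi), List.getD_eq_getElem _ _ (hl.symm ▸ hj)] at h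
  exact clique_nodup'.getElem_inj_iff.1 h
where clique_nodup' : vec.Nodup := by decide +kernel

theorem pair_sum_ne {i j : ℕ} (hi : i < 22) (hj : j < i) :
    (∀ k < 22, vec.getD i 0 ^^^ vec.getD j 0 ≠ vec.getD k 0) ∧ vec.getD i 0 ^^^ vec.getD j 0 ≠ 0 := by
  have h := List.all_eq_true.1 (List.all_eq_true.1 sums_ok i (List.mem_range.2 hi)) j (List.mem_range.2 hj)
  simp only [Bool.and_eq_true, Bool.not_eq_true', and_assoc] at h
  refine ⟨fun k hk e => ?_, fun e => ?_⟩
  · have h1 := h.1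
    rw [List.contains_eq_mem, decide_eq_false_iff_not] at h1
    refine h1 (show vec.getD i 0 ^^^ vec.getD j 0 ∈ vec from e ▸ ?_)
    have hl : vec.length = 22 := by decide +kernel
    rw [List.getD_eq_getElem _ _ (hl.symm ▸ hk)]
    exact List.getElem_mem _
  · have h1 := h.2.1
    rw [show Nat.xor (vec.getD i 0) (vec.getD j 0) = 0 from e] at h1
    simp at h1

theorem pair_unique {i j k l : ℕ} (hi : i < 22) (hj : j < 22) (hij : i ≠ j) (hk : k < 22) (hl : l < 22) (hkl : k ≠ l)
    (h : vec.getD i 0 ^^^ vec.getD j 0 = vec.getD k 0 ^^^ vec.getD l 0) : (k = i ∧ l = j) ∨ (k = j ∧ l = i) := by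
  wlog hji : j < i generalizing i j
  · rcases this hj hi hij.symm (by rw [Nat.xor_comm, h]) (by omega) with h' | h'
    exacts [Or.inr h', Or.inl h']
  wlog hlk : l < k generalizing k l
  · rcases this hl hk hkl.symm (by rw [h, Nat.xor_comm]) (by omega) with h' | h'
    exacts [Or.inr ⟨h'.2, h'.1⟩, Or.inl ⟨h'.2, h'.1⟩]
  have h' := List.all_eq_true.1 (List.all_eq_true.1 sums_ok i (List.mem_range.2 hi)) j (List.mem_range.2 hji)
  simp only [Bool.and_eq_true, and_assoc] at h'
  have h2 := List.all_eq_true.1 (List.all_eq_true.1 h'.2.2 k (List.mem_range.2 hk)) l (List.mem_range.2 hlk)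
  rw [Bool.or_eq_true, Bool.and_eq_true, Bool.not_eq_true'] at h2
  rcases h2 with ⟨h2, h3⟩ | h2
  · exact Or.inl ⟨(Nat.eq_of_beq_eq_true h2).symm, (Nat.eq_of_beq_eq_true h3).symm⟩
  · rw [show Nat.xor (vec.getD i 0) (vec.getD j 0) = Nat.xor (vec.getD k 0) (vec.getD l 0) from h] at h2
    simp at h2

theorem five_ne {a b c e f : ℕ} (hn : [a, b, c, e, f].Nodup) (hlt : ∀ x ∈ [a, b, c, e, f], x < 22) :
    vec.getD a 0 ^^^ vec.getD b 0 ^^^ vec.getD c 0 ^^^ vec.getD e 0 ^^^ vec.getD f 0 ≠ 0 := by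
  intro h0
  have h1 : vec.getD a 0 ^^^ vec.getD b 0 = vec.getD c 0 ^^^ vec.getD e 0 ^^^ vec.getD f 0 := by
    rw [← Nat.xor_eq_zero_iff]
    simpa [Nat.xor_assoc] using h0
  simp only [List.mem_cons, List.not_mem_nil, or_false, forall_eq_or_imp, forall_eq] at hlt
  simp only [List.nodup_cons, List.mem_cons, List.not_mem_nil, or_false, not_or] at hn
  obtain ⟨ha, hb, hc, he, hf⟩ := hlt
  obtain ⟨⟨hab, -, -, -⟩, -, ⟨hce, hcf⟩, hef, -⟩ := hn
  obtain ⟨P, hP⟩ : ∃ P, P = maskOf ((List.range 22).flatMap fun a => (List.range a).map fun b =>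
      Nat.xor (vec.getD a 0) (vec.getD b 0)) := ⟨_, rfl⟩
  have hin : P.testBit (vec.getD a 0 ^^^ vec.getD b 0) = true := by
    rw [hP, testBit_maskOf, List.mem_flatMap]
    rcases Nat.lt_or_ge b a with h | h
    · exact ⟨a, List.mem_range.2 ha, List.mem_map.2 ⟨b, List.mem_range.2 h, rfl⟩⟩
    · exact ⟨b, List.mem_range.2 hb, List.mem_map.2 ⟨a, List.mem_range.2 (by omega), Nat.xor_comm _ _⟩⟩
  have hout : ∀ i < 22, ∀ j < i, ∀ k < j, P.testBit (vec.getD i 0 ^^^ vec.getD j 0 ^^^ vec.getD k 0) = false := by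
    intro i hi j hj k hk
    have h := List.all_eq_true.1 (List.all_eq_true.1 (List.all_eq_true.1 triples_ok i (List.mem_range.2 hi))
      j (List.mem_range.2 hj)) k (List.mem_range.2 hk)
    rw [Bool.not_eq_true', ← hP] at h
    exact h
  have : P.testBit (vec.getD c 0 ^^^ vec.getD e 0 ^^^ vec.getD f 0) = false := by
    rcases Nat.lt_or_gt_of_ne hce with h | h <;> rcases Nat.lt_or_gt_of_ne hcf with h' | h' <;>
      rcases Nat.lt_or_gt_of_ne hef with h'' | h''
    all_goals first
      | omega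
      | (rw [← hout c hc e (by omega) f (by omega)])
      | (rw [← hout c hc f (by omega) e (by omega)]; simp [Nat.xor_assoc, Nat.xor_comm, Nat.xor_left_comm])
      | (rw [← hout e he c (by omega) f (by omega)]; simp [Nat.xor_assoc, Nat.xor_comm, Nat.xor_left_comm])
      | (rw [← hout e he f (by omega) c (by omega)]; simp [Nat.xor_assoc, Nat.xor_comm, Nat.xor_left_comm])
      | (rw [← hout f hf c (by omega) e (by omega)]; simp [Nat.xor_assoc, Nat.xor_comm, Nat.xor_left_comm])
      | (rw [← hout f hf e (by omega) c (by omega)]; simp [Nat.xor_assoc, Nat.xor_comm, Nat.xor_left_comm])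
  rw [h1, this] at hin
  exact Bool.false_ne_true hin

theorem foldl_insert_nodup : ∀ (l L : List ℕ), L.Nodup →
    (l.foldl (fun R w => bif R.contains w then R else R ++ [w]) L).Nodup ∧
      ∀ x ∈ l.foldl (fun R w => bif R.contains w then R else R ++ [w]) L, x ∈ L ∨ x ∈ l
  | [], L, h => ⟨h, fun x hx => Or.inl hx⟩
  | w :: l, L, h => by
    rw [List.foldl_cons]
    cases hw : L.contains w
    · rw [List.contains_eq_mem, decide_eq_false_iff_not] at hw
      obtain ⟨h1, h2⟩ := foldl_insert_nodup l (L ++ [w]) (List.nodup_append.2 ⟨h, List.nodup_singleton w,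
        fun a ha b hb e => hw (List.mem_singleton.1 hb ▸ e ▸ ha)⟩)
      refine ⟨h1, fun x hx => ?_⟩
      rcases h2 x hx with h3 | h3
      · rcases List.mem_append.1 h3 with h3 | h3
        · exact Or.inl h3
        · exact Or.inr (by simp [List.mem_singleton.1 h3])
      · exact Or.inr (by simp [h3])
    · obtain ⟨h1, h2⟩ := foldl_insert_nodup l L h
      exact ⟨h1, fun x hx => (h2 x hx).imp id fun h3 => by simp [h3]⟩

theorem growFive_spec {bs tb : List ℕ} {hs : List (List ℕ)} {P : ℕ → Prop}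
    (hP : ∀ v, P v → ∀ h ∈ hs, P (act11 bs tb h v)) : ∀ (f : ℕ) (L : List ℕ), L.Nodup → (∀ v ∈ L, P v) →
      (growFive bs tb hs f L).Nodup ∧ ∀ v ∈ growFive bs tb hs f L, P v
  | 0, L, h1, h2 => ⟨h1, h2⟩
  | f + 1, L, h1, h2 => by
    rw [growFive]
    cases Nat.ble 5 L.length
    · rw [cond_false, addImages]
      obtain ⟨h3, h4⟩ := foldl_insert_nodup (L.flatMap fun v => hs.map fun h => act11 bs tb h v) L h1
      refine growFive_spec hP f _ h3 fun v hv => ?_
      rcases h4 v hv with hv | hv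
      · exact h2 v hv
      · obtain ⟨u, hu, hv⟩ := List.mem_flatMap.1 hv
        obtain ⟨h, hh, rfl⟩ := List.mem_map.1 hv
        exact hP u (h2 u hu) h hh
    · exact ⟨h1, h2⟩

theorem stepsOK_induction {bs tb : List ℕ} {hs : List (List ℕ)} {orb : List ℕ} {P : ℕ → Prop}
    (hP : ∀ v, P v → ∀ h ∈ hs, P (act11 bs tb h v)) : ∀ (t : List (ℕ × ℕ)) (i : ℕ),
      stepsOK bs tb hs orb t i = true → (∀ k < i, P (orb.getD k 0)) → ∀ k < orb.length, P (orb.getD k 0)
  | [], i, h, hi => by
    rw [stepsOK, Nat.beq_eq] at h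
    exact h ▸ hi
  | (p, g) :: t, i, h, hi => by
    simp only [stepsOK, Bool.and_eq_true, Nat.blt_eq, Nat.beq_eq, and_assoc] at h
    obtain ⟨h1, h2, h3, h4, h5⟩ := h
    refine stepsOK_induction hP t (i + 1) h5 fun k hk => ?_
    rcases Nat.lt_or_ge k i with hlt | hge
    · exact hi k hlt
    · rw [show k = i by omega, ← h4]
      refine hP _ (hi p h1) _ ?_
      rw [List.getD_eq_getElem _ _ h2]
      exact List.getElem_mem _

end Cfsg.Lib.CosetEnum.Fi22Two
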