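import Cfsg.Agent.Lib.CosetEnum.Fi22Norm.Common
import Cfsg.Agent.Lib.CosetEnum.Fi22Two.Checks

/-!
# Twenty-two commuting transpositions of Fi22 and the group they generate
-/

set_option autoImplicit false
set_option linter.unusedSectionVars false
set_option maxRecDepth 20000

namespace Cfsg.Lib.CosetEnum.Fi22Two

open Fi22Norm (Fi22Tab moves)
open Fi22U62 (tabP)
open Fi22Out (pts)

variable {G : Type*} [Group G] [Finite G] {D : Set G} (T : Fi22Tab G D)

theorem clique_spec {i : ℕ} (hi : i < 22) : (∀ g ∈ moving.getD i [], g < 9) ∧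
    twalk tabP 9 (moving.getD i []) (pts.getD 0 0) = clique.getD i 0 ∧ clique.getD i 0 < 3510 := by
  have h := clique_moving
  simp only [List.all_eq_true, List.mem_range, Bool.and_eq_true, Nat.blt_eq, Nat.beq_eq, and_assoc] at h
  exact h i hi

theorem cliqueWord_lt {i : ℕ} (hi : i < 22) : ∀ g ∈ cliqueWord moving i, g < 9 := fun g hg => by
  simp only [cliqueWord, conjWord, List.mem_append, List.mem_reverse, List.mem_singleton] at hg
  rcases hg with (hg | hg) | hg
  exacts [(clique_spec hi).1 g hg, hg ▸ by norm_num, (clique_spec hi).1 g hg]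

/-- A point of the clique. -/
def P (i : ℕ) (hi : i < 22) : Fin 3510 := ⟨clique.getD i 0, (clique_spec hi).2.2⟩

/-- The transposition of a point of the clique. -/
noncomputable def gen (i : ℕ) : G := wordVal T.A.x (cliqueWord moving i)

theorem delta_P {i : ℕ} (hi : i < 22) : T.A.delta (P i hi) = gen T i :=
  T.delta_moved (by simpa [List.all_eq_true] using (clique_spec hi).1) (clique_spec hi).2.1 _

theorem basis_spec {k : ℕ} (hk : k < 10) :
    basisIdx.getD k 0 < 22 ∧ vec.getD (basisIdx.getD k 0) 0 = 2 ^ k := by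
  have h := basis_ok
  simp only [List.all_eq_true, List.mem_range, Bool.and_eq_true, Nat.blt_eq, Nat.beq_eq] at h
  exact h k hk

theorem gen_commute {i j : ℕ} (hi : i < 22) (hj : j < 22) : Commute (gen T i) (gen T j) := by
  have h := clique_comm
  simp only [List.all_eq_true, List.mem_range, Nat.beq_eq] at h
  rw [← delta_P T hj]
  show gen T i * _ = _
  rw [T.A.commute_delta_iff, gen, Fin.ext_iff,
    T.A.walk_apply (fun g hg => T.hk.symm ▸ cliqueWord_lt hi g hg), T.hZ, T.hk]
  exact h i hi j hj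

theorem gen_sq {i : ℕ} : gen T i * gen T i = 1 := by
  rw [gen, cliqueWord, conjWord, T.conj_word, show wordVal T.A.x [0] = T.A.x 0 from
    T.A.wordVal_singleton (by rw [T.hk]; norm_num)]
  rw [mul_assoc, mul_assoc, mul_assoc, inv_mul_cancel_left, ← mul_assoc (T.A.x 0), T.A.sq, one_mul,
    mul_inv_cancel]

/-- The product of the basis transpositions given by the first bits of a number. -/
noncomputable def ev : ℕ → ℕ → G
  | 0, _ => 1
  | k + 1, v => ev k v * if v.testBit k then gen T (basisIdx.getD k 0) else 1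

theorem ev_eq_word : ∀ (k v : ℕ), ev T k v = wordVal T.A.x (coordWord moving basisIdx k v)
  | 0, v => rfl
  | k + 1, v => by
    rw [ev, coordWord, ev_eq_word k v]
    cases v.testBit k
    · rw [if_neg (by simp), mul_one, cond_false]
    · rw [if_pos rfl, cond_true, wordVal_append]
      rfl

theorem commute_ev {j : ℕ} (hj : j < 22) : ∀ {k : ℕ}, k ≤ 10 → ∀ v, Commute (gen T j) (ev T k v)
  | 0, _, v => Commute.one_right _
  | k + 1, hk, v => by
    rw [ev]
    refine (commute_ev hj (by omega) v).mul_right ?_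
    split_ifs
    · exact gen_commute T hj (basis_spec (by omega)).1
    · exact Commute.one_right _

theorem ev_xor : ∀ {k : ℕ}, k ≤ 10 → ∀ u v, ev T k (u ^^^ v) = ev T k u * ev T k v
  | 0, _, u, v => (one_mul 1).symm
  | k + 1, hk, u, v => by
    simp only [ev, ev_xor (k := k) (by omega) u v, Nat.testBit_xor]
    have hb : basisIdx.getD k 0 < 22 := (basis_spec (by omega)).1
    have hc := commute_ev T hb (k := k) (by omega) v
    obtain ⟨a, ha⟩ : ∃ a, a = gen T (basisIdx.getD k 0) := ⟨_, rfl⟩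
    have hsq : a * a = 1 := ha ▸ gen_sq T
    rw [← ha] at hc ⊢
    cases u.testBit k <;> cases v.testBit k
    · simp
    · simp [mul_assoc]
    · simp [mul_assoc, hc.symm.eq]
    · simp only [Bool.xor_self, Bool.false_eq_true, ↓reduceIte, mul_one]
      calc ev T k u * ev T k v = ev T k u * (a * ev T k v * a) := by
            rw [hc.eq, mul_assoc (ev T k v) a a, hsq, mul_one]
        _ = ev T k u * a * (ev T k v * a) := by simp only [mul_assoc]

theorem ev_zero : ∀ k, ev T k 0 = 1
  | 0 => rfl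
  | k + 1 => by simp [ev, ev_zero k]

theorem ev_vec {j : ℕ} (hj : j < 22) : vec.getD j 0 < 1024 ∧ gen T j = ev T 10 (vec.getD j 0) := by
  have h := vec_ok
  simp only [List.all_eq_true, List.mem_range, Bool.and_eq_true, Nat.blt_eq] at h
  exact ⟨(h j hj).1, by rw [ev_eq_word]; exact T.eq_of_same (h j hj).2⟩

theorem ev_ne_one {v : ℕ} (h0 : v ≠ 0) (hv : v < 1024) : ev T 10 v ≠ 1 := by
  have h := witness_ok
  simp only [List.all_eq_true, List.mem_range, movesOK, Bool.and_eq_true, Nat.blt_eq, Bool.not_eq_true',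
    and_assoc] at h
  obtain ⟨hg, hw, hm⟩ := h (v - 1) (by omega)
  rw [show v - 1 + 1 = v by omega] at hg hw hm
  rw [ev_eq_word]
  intro e
  obtain ⟨g, hge⟩ : ∃ g, g = Fi22Norm.digit witness v := ⟨_, rfl⟩
  rw [← hge] at hg hm
  have hlt : pts.getD g 0 < 3510 := by
    have := T.A.pts_lt (g := g) (by rw [T.hk]; exact hg)
    rwa [T.hp] at this
  have h2 := T.A.walk_apply (fun a ha => T.hk.symm ▸ hw a ha) ⟨_, hlt⟩
  rw [e, map_one, Equiv.Perm.one_apply, T.hZ, T.hk] at h2
  have h3 : Nat.beq (twalk tabP 9 (coordWord moving basisIdx 10 v) (pts.getD g 0)) (pts.getD g 0) = true := by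
    simpa using h2.symm
  rw [h3] at hm
  exact Bool.noConfusion hm

theorem ev_inj {u v : ℕ} (hu : u < 1024) (hv : v < 1024) (h : ev T 10 u = ev T 10 v) : u = v := by
  by_contra hne
  refine ev_ne_one T (v := u ^^^ v) (by simpa [Nat.xor_eq_zero_iff] using hne)
    (Nat.xor_lt_two_pow (n := 10) hu hv) ?_
  rw [ev_xor T le_rfl, h, ← ev_xor T le_rfl, Nat.xor_self, ev_zero]

/-- The group generated by the twenty-two transpositions. -/
noncomputable def base : Subgroup G where
  carrier := {g | ∃ v < 1024, ev T 10 v = g}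
  one_mem' := ⟨0, by norm_num, ev_zero T 10⟩
  mul_mem' := by
    rintro _ _ ⟨u, hu, rfl⟩ ⟨v, hv, rfl⟩
    exact ⟨u ^^^ v, Nat.xor_lt_two_pow (n := 10) hu hv, ev_xor T le_rfl u v⟩
  inv_mem' := by
    rintro _ ⟨v, hv, rfl⟩
    refine ⟨v, hv, (inv_eq_of_mul_eq_one_left ?_).symm⟩
    rw [← ev_xor T le_rfl, Nat.xor_self, ev_zero]

theorem gen_mem {j : ℕ} (hj : j < 22) : gen T j ∈ base T :=
  ⟨_, (ev_vec T hj).1, (ev_vec T hj).2.symm⟩

theorem card_base : Nat.card (base T) = 1024 := by
  let f : Fin 1024 → base T := fun v => ⟨ev T 10 v.1, v.1, v.2, rfl⟩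
  have hf : Function.Bijective f :=
    ⟨fun u v h => Fin.ext (ev_inj T u.2 v.2 (congrArg Subtype.val h)),
      fun ⟨g, v, hv, hg⟩ => ⟨⟨v, hv⟩, Subtype.ext hg⟩⟩
  rw [← Nat.card_congr (Equiv.ofBijective f hf), Nat.card_fin]

theorem base_comm {g h : G} (hg : g ∈ base T) (hh : h ∈ base T) : g * h = h * g := by
  obtain ⟨u, -, rfl⟩ := hg
  obtain ⟨v, -, rfl⟩ := hh
  rw [← ev_xor T le_rfl, ← ev_xor T le_rfl, Nat.xor_comm]

theorem base_sq {g : G} (hg : g ∈ base T) : g ^ 2 = 1 := by
  obtain ⟨u, -, rfl⟩ := hg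
  rw [pow_two, ← ev_xor T le_rfl, Nat.xor_self, ev_zero]

theorem base_elementary : Cfsg.IsElementaryAbelian 2 (base T) :=
  ⟨⟨⟨fun a b => Subtype.ext (base_comm T a.2 b.2)⟩⟩, fun _ ha => base_sq T ha⟩

theorem base_eq_closure : base T = Subgroup.closure {g | ∃ i, ∃ h : i < 22, T.A.delta (P i h) = g} := by
  refine le_antisymm ?_ ((Subgroup.closure_le _).2 ?_)
  · have : ∀ k ≤ 10, ∀ v, ev T k v ∈ Subgroup.closure {g | ∃ i, ∃ h : i < 22, T.A.delta (P i h) = g} := by
      intro k hk v
      induction k with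
      | zero => exact one_mem _
      | succ k ih =>
        rw [ev]
        refine mul_mem (ih (by omega)) ?_
        split_ifs
        · exact Subgroup.subset_closure ⟨_, (basis_spec (by omega)).1, delta_P T _⟩
        · exact one_mem _
    rintro _ ⟨v, -, rfl⟩
    exact this 10 le_rfl v
  · rintro _ ⟨i, hi, rfl⟩
    rw [delta_P T hi]
    exact gen_mem T hi

theorem centralizer_base : ∀ c : G, (∀ k < 10, Commute c (gen T (basisIdx.getD k 0))) → c ∈ base T := by
  obtain ⟨ws, hws⟩ : ∃ ws, ws = (List.range 10).map fun k => cliqueWord moving (basisIdx.getD k 0) := ⟨_, rfl⟩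
  have hC : Subgroup.centralizer {g | ∃ k < 10, gen T (basisIdx.getD k 0) = g} = T.A.cent ws := by
    refine congrArg Subgroup.centralizer (Set.ext fun g => ⟨?_, ?_⟩)
    · rintro ⟨k, hk, rfl⟩
      exact ⟨_, hws ▸ List.mem_map.2 ⟨k, List.mem_range.2 hk, rfl⟩, rfl⟩
    · rintro ⟨w, hw, rfl⟩
      rw [hws] at hw
      obtain ⟨k, hk, rfl⟩ := List.mem_map.1 hw
      exact ⟨k, List.mem_range.1 hk, rfl⟩
  have hle : base T ≤ T.A.cent ws := by
    intro g hg
    rw [← hC, Subgroup.mem_centralizer_iff]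
    rintro _ ⟨k, hk, rfl⟩
    exact base_comm T (gen_mem T (basis_spec hk).1) hg
  obtain ⟨hts, hcd, hmove, hlt, hlen⟩ := centre_tests
  obtain ⟨hts', hcd', hlen'⟩ := last_tests
  obtain ⟨horb, hspan⟩ := last_span
  rw [← hws] at hts hcd hts' hcd' hspan
  have h2 : Nat.card (T.A.cent (conjWord move :: ws)) ≤ 32 := by
    rw [← hlen']
    refine Fi22Norm.card_le_last T.base T.center (p := ⟨last, by decide⟩) (M := moves) (D := span)
      (by rw [T.hZ, T.hk]; exact hts') (by rw [T.hZ, T.hk]; exact hcd') (orbw := orbitWords) ?_ ?_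
    · rw [hws]; simp only [List.length_cons, List.length_map, List.length_range]; exact horb
    · rw [T.hZ, T.hk, T.hp]; exact hspan
  have h1 : Nat.card (T.A.cent ws) ≤ 32 * Nat.card (T.A.cent (conjWord move :: ws)) := by
    rw [← hlen]
    exact Fi22Norm.card_le_stage T.base (M := moves) (by rw [T.hk]; exact hlt)
      (by rw [T.hZ, T.hk, T.hp, hmove]) (by rw [T.hZ, T.hk]; exact hts) (by rw [T.hZ, T.hk]; exact hcd)
  have heq : base T = T.A.cent ws :=
    Subgroup.eq_of_le_of_card_ge hle (by rw [card_base T]; omega)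
  intro c hc
  rw [heq, ← hC, Subgroup.mem_centralizer_iff]
  rintro _ ⟨k, hk, rfl⟩
  exact (hc k hk).eq.symm

/-- A transposition in the group is one of the twenty-two. -/
theorem delta_mem_base {q : Fin 3510} (hq : T.A.delta q ∈ base T) : ∃ i, ∃ h : i < 22, q = P i h := by
  have hmem : elemN clique q.1 = true := by
    refine scanOK_get clique_scan _ (Nat.zero_le _) (by omega) (condsB_iff.2 fun e he => ?_)
    obtain ⟨k, hk, rfl⟩ := List.mem_map.1 he
    rw [List.mem_range] at hk
    refine iff_of_true ?_ rfl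
    have hb := (basis_spec hk).1
    have h := base_comm T (gen_mem T hb) hq
    rw [gen, T.A.commute_delta_iff, Fin.ext_iff,
      T.A.walk_apply (fun g hg => T.hk.symm ▸ cliqueWord_lt hb g hg), T.hZ, T.hk] at h
    exact h
  obtain ⟨i, hi, he⟩ := List.mem_iff_getElem.1 (elemN_iff.1 hmem)
  rw [clique_nodup.2.1] at hi
  exact ⟨i, hi, Fin.ext (by rw [P]; exact he.symm.trans (List.getD_eq_getElem _ _ _).symm)⟩

end Cfsg.Lib.CosetEnum.Fi22Two
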