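import Cfsg.Agent.Lib.CosetEnum.Fi22U62.Data
import Cfsg.Agent.Lib.CosetEnum.Fi22Out.Data
import Cfsg.Agent.Lib.CosetEnum.Groups.Fi22
import Cfsg.Agent.Lib.CosetEnum.Trans.DefsRewrite
import Cfsg.Agent.Lib.CosetEnum.Fi22Two.DefsTwo
import Cfsg.Agent.Lib.CosetEnum.Fi22Two.Data
import Cfsg.Agent.Lib.CosetEnum.Fi22Two.DataTwo

/-! Kernel check: the possible coordinates in the double cover. -/

set_option autoImplicit false
set_option maxRecDepth 30000

namespace Cfsg.Lib.CosetEnum.Fi22Two

open Fi22U62 (tabP)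
open Fi22Out (pts)

theorem tables_ok : ((choicesOf basisIdx vec).sections.all fun tb =>
    !(normPerm.all fun h => compatOK basisIdx tb h) || tables.contains tb) = true := by decide +kernel

end Cfsg.Lib.CosetEnum.Fi22Two
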