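import Cfsg.Agent.Lib.CosetEnum.Fi22U62.Data
import Cfsg.Agent.Lib.CosetEnum.Fi22Out.Data
import Cfsg.Agent.Lib.CosetEnum.Groups.Fi22
import Cfsg.Agent.Lib.CosetEnum.Trans.DefsRewrite
import Cfsg.Agent.Lib.CosetEnum.Fi22Two.DefsTwo
import Cfsg.Agent.Lib.CosetEnum.Fi22Two.Data
import Cfsg.Agent.Lib.CosetEnum.Fi22Two.DataTwo

/-! Kernel checks for the double cover. -/

set_option autoImplicit false
set_option maxRecDepth 30000

namespace Cfsg.Lib.CosetEnum.Fi22Two

open Fi22U62 (tabP)
open Fi22Out (pts)

theorem normGens_ok : ((List.range 8).all fun i => permOK tabP 9 clique (normGens.getD i []) (normPerm.getD i [])) = true ∧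
    normGens.length = 8 ∧ normPerm.length = 8 := by decide +kernel

theorem tables_flip : tables.getD 0 [] = vec ∧ tables.getD 1 [] = coord ∧ tables.length = 4 ∧
    flipTable vec (tables.getD 3 []) = vec ∧ flipTable vec (tables.getD 2 []) = coord := by decide +kernel

theorem coord_compat : (normPerm.all fun h => compatOK basisIdx coord h) = true ∧
    ((List.range 22).all fun j => Nat.blt (coord.getD j 0) 2048 &&
      Nat.beq (coord.getD j 0 % 1024) (vec.getD j 0)) = true := by decide +kernel

theorem moveWords_ok : moveWords.all (fun w => w.all fun g => Nat.blt g 9) = true := by decide +kernel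

theorem leftProg_run : runSeq tabP 9 (pts.getD 0 0) moveWords leftProg
    (seqOf pts (Fi22Pres.extra.getD 1 [])) leftSeven = true := by decide +kernel

theorem rightProg_run : runSeq tabP 9 (pts.getD 0 0) moveWords rightProg
    (seqOf pts (Fi22Pres.extra.getD 2 [])) rightSeven = true := by decide +kernel

theorem seven_ok : ((leftConj ++ rightConj).all fun g => Nat.blt g 9) = true ∧
    leftSeven.length = leftTarget.length ∧ rightSeven.length = rightTarget.length ∧
    ((List.range leftSeven.length).all fun i => Nat.blt (leftTarget.getD i 0) 22 && Nat.blt (leftSeven.getD i 0) 3510 &&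
      Nat.beq (twalk tabP 9 leftConj (leftSeven.getD i 0)) (clique.getD (leftTarget.getD i 0) 0)) = true ∧
    ((List.range rightSeven.length).all fun i => Nat.blt (rightTarget.getD i 0) 22 && Nat.blt (rightSeven.getD i 0) 3510 &&
      Nat.beq (twalk tabP 9 rightConj (rightSeven.getD i 0)) (clique.getD (rightTarget.getD i 0) 0)) = true ∧
    (leftTarget.map fun j => vec.getD j 0).foldr Nat.xor 0 = 0 ∧
    (rightTarget.map fun j => vec.getD j 0).foldr Nat.xor 0 = 0 := by decide +kernel

theorem orbit_lengths : orbPos.length = 22 ∧ orbNeg.length = 22 ∧ orbPair.length = 231 ∧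
    orbPairNeg.length = 231 ∧ orbRest.length = 1540 := by decide +kernel

theorem cover_mask :
    maskOf (0 :: 1024 :: (orbPos ++ orbNeg ++ orbPair ++ orbPairNeg ++ orbRest)) + 1 = 2 ^ 2048 := by
  decide +kernel

theorem pos_neg_ok : ((List.range 22).all fun j => orbPos.contains (coord.getD j 0) &&
    orbNeg.contains (Nat.xor (coord.getD j 0) 1024)) = true := by decide +kernel

theorem pair_in : ((List.range 22).all fun i => (List.range i).all fun j =>
    orbPair.contains (Nat.xor (coord.getD i 0) (coord.getD j 0)) &&
      orbPairNeg.contains (Nat.xor (Nat.xor (coord.getD i 0) (coord.getD j 0)) 1024)) = true := by decide +kernel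

theorem pair_form : (orbPair.all fun v => (List.range 22).any fun i =>
      (List.range i).any fun j => Nat.beq (Nat.xor (coord.getD i 0) (coord.getD j 0)) v) = true ∧
    (orbPairNeg.all fun v => (List.range 22).any fun i =>
      (List.range i).any fun j => Nat.beq (Nat.xor (Nat.xor (coord.getD i 0) (coord.getD j 0)) 1024) v) = true := by
  decide +kernel

theorem single_form : (orbPos.all fun v => (List.range 22).any fun i => Nat.beq (coord.getD i 0) v) = true ∧
    (orbNeg.all fun v => (List.range 22).any fun i => Nat.beq (Nat.xor (coord.getD i 0) 1024) v) = true := by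
  decide +kernel

theorem stab_ok : stabWords.length = 4 ∧ stabPerm.length = 4 ∧
    ((List.range 4).all fun i => ((stabWords.getD i []).all fun j => Nat.blt j 8) &&
      permOK tabP 9 clique (prodWord normGens (stabWords.getD i [])) (stabPerm.getD i [])) = true := by decide +kernel

theorem mover_ok : moverWords.length = 5 ∧ moverPerm.length = 5 ∧
    ((List.range 5).all fun i => ((moverWords.getD i []).all fun j => Nat.blt j 8) &&
      permOK tabP 9 clique (prodWord normGens (moverWords.getD i [])) (moverPerm.getD i [])) = true := by decide +kernel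

theorem pair_rep : coord.getD 0 0 = 1 ∧ coord.getD 1 0 = 2 ∧ orbPair.getD 0 0 = 3 ∧
    (orbPairNeg.contains 1027) = true ∧
    (stabPerm.all fun h => Nat.beq (act11 basisIdx coord h 3) 3) = true ∧
    act11 basisIdx coord (stabPerm.getD 0 []) 1 = 2 ∧ act11 basisIdx coord (stabPerm.getD 0 []) 2 = 1 := by
  decide +kernel

theorem grow_ok : ((List.range 2048).all fun v => [0, 1, 2, 3, 1024, 1025, 1026, 1027].contains v ||
    Nat.ble 5 (growFive basisIdx coord stabPerm 5 [v]).length) = true := by decide +kernel

theorem five_ok : (moverPerm.all fun h => Nat.beq (act11 basisIdx coord h 1) 1) = true ∧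
    (moverPerm.map fun h => act11 basisIdx coord h 1027).foldr Nat.xor 0 = 0 ∧
    ((List.range 5).all fun g => (List.range g).all fun h => [0, 1, 1024, 1025].all fun c =>
      !(Nat.beq (Nat.xor (act11 basisIdx coord (moverPerm.getD g []) 1027)
        (act11 basisIdx coord (moverPerm.getD h []) 1027)) c)) = true := by decide +kernel

theorem sums_ok : ((List.range 22).all fun i => (List.range i).all fun j =>
    !(vec.contains (Nat.xor (vec.getD i 0) (vec.getD j 0))) &&
    !(Nat.beq (Nat.xor (vec.getD i 0) (vec.getD j 0)) 0) &&
    (List.range 22).all fun k => (List.range k).all fun l => (Nat.beq i k && Nat.beq j l) ||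
      !(Nat.beq (Nat.xor (vec.getD i 0) (vec.getD j 0)) (Nat.xor (vec.getD k 0) (vec.getD l 0)))) = true := by
  decide +kernel

theorem triples_ok : ((List.range 22).all fun i => (List.range i).all fun j => (List.range j).all fun k =>
    !((maskOf ((List.range 22).flatMap fun a => (List.range a).map fun b =>
        Nat.xor (vec.getD a 0) (vec.getD b 0))).testBit
      (Nat.xor (Nat.xor (vec.getD i 0) (vec.getD j 0)) (vec.getD k 0)))) = true := by decide +kernel

end Cfsg.Lib.CosetEnum.Fi22Two
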