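import Cfsg.Agent.Lib.CosetEnum.Fi22Two.Thompson
import Cfsg.Agent.Lib.CosetEnum.Fi22Two.ChecksTwo
import Cfsg.Agent.Lib.CosetEnum.Fi22Two.ChecksTable
import Cfsg.Agent.Lib.CosetEnum.Trans.Lifts

/-!
# The twenty-two lifted transpositions in a double cover of Fi22
-/

set_option autoImplicit false
set_option linter.unusedSectionVars false
set_option maxRecDepth 20000

namespace Cfsg.Lib.CosetEnum.Fi22Two

open Fi22Norm (Fi22Tab)
open Fi22U62 (tabP)
open Fi22Out (pts)

variable {Q : Type*} [Group Q] [Finite Q] {E : Set Q}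
variable {C : Type*} [Group C] [Finite C]

/-- A surjection with kernel a central group of order two. -/
structure IsDouble (π : C →* Q) (z : C) : Prop where
  surj : Function.Surjective π
  ker_iff : ∀ c, π c = 1 ↔ c = 1 ∨ c = z
  central : ∀ c, Commute z c
  sq : z * z = 1
  ne : z ≠ 1

variable {π : C →* Q} {z : C}

theorem IsDouble.proj_z (hd : IsDouble π z) : π z = 1 := (hd.ker_iff z).2 (Or.inr rfl)

theorem IsDouble.eq_or (hd : IsDouble π z) {a b : C} (h : π a = π b) : a = b ∨ a = b * z := by
  rcases (hd.ker_iff (b⁻¹ * a)).1 (by rw [map_mul, map_inv, h, inv_mul_cancel]) with e | e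
  · exact Or.inl (inv_mul_eq_one.1 e).symm
  · exact Or.inr (inv_mul_eq_iff_eq_mul.1 e)

theorem IsDouble.card_comap (hd : IsDouble π z) (H : Subgroup Q) :
    Nat.card (H.comap π) = 2 * Nat.card H := by
  choose s hs using fun h : Q => hd.surj h
  let f : Bool × H → H.comap π := fun u => ⟨s u.2.1 * bif u.1 then z else 1, by
    show π _ ∈ H
    rw [map_mul, hs]
    cases u.1 <;> simp [hd.proj_z, u.2.2]⟩
  have hf : Function.Bijective f := by
    refine ⟨fun u v huv => ?_, fun c => ?_⟩
    · have e : s u.2.1 * (bif u.1 then z else 1) = s v.2.1 * (bif v.1 then z else 1) := congrArg Subtype.val huv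
      have e2 : u.2 = v.2 := by
        have := congrArg π e
        refine Subtype.ext ?_
        simpa [hs, apply_ite π, hd.proj_z, Bool.cond_eq_ite] using this
      rw [e2, mul_right_inj] at e
      refine Prod.ext ?_ e2
      revert e
      generalize u.1 = b₁
      generalize v.1 = b₂
      intro e
      cases b₁ <;> cases b₂ <;> simp only [cond_true, cond_false] at e
      · rfl
      · exact absurd e.symm hd.ne
      · exact absurd e hd.ne
      · rfl
    · rcases hd.eq_or (hs (π c.1)).symm with e | e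
      · exact ⟨(false, ⟨π c.1, c.2⟩), Subtype.ext (by simpa [f] using e.symm)⟩
      · exact ⟨(true, ⟨π c.1, c.2⟩), Subtype.ext (by simpa [f] using e.symm)⟩
  rw [← Nat.card_congr (Equiv.ofBijective f hf), Nat.card_prod]
  simp

variable (T : Fi22Tab Q E) (L : T.A.Lifts π)

/-- The opposite lifts. -/
def flipLifts (hd : IsDouble π z) : T.A.Lifts π where
  Y p := L.Y p * z
  proj p := by rw [map_mul, L.proj, hd.proj_z, mul_one]
  sq p := by
    rw [mul_assoc, ← mul_assoc z, (hd.central (L.Y p)).eq, mul_assoc (L.Y p) z z, hd.sq, mul_one, L.sq]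
  conj p q := by
    rw [← L.conj]
    have h := fun c => (hd.central c).eq
    calc L.Y p * z * (L.Y q * z) * (L.Y p * z) = L.Y p * (z * L.Y q) * (z * L.Y p) * z := by simp only [mul_assoc]
      _ = L.Y p * L.Y q * (z * z) * L.Y p * z := by rw [h]; simp only [mul_assoc]
      _ = L.Y p * L.Y q * L.Y p * z := by rw [hd.sq, mul_one]

/-- Every element permutes the lifts as its image does. -/
theorem equivariant (hd : IsDouble π z) (c : C) (q : Fin 3510) :
    c * L.Y q * c⁻¹ = L.Y (T.A.f (π c) q) := by
  obtain ⟨S, hS⟩ : ∃ S : Subgroup C, S = Subgroup.closure (Set.range L.Y ∪ {z}) := ⟨_, rfl⟩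
  have hS' : ∀ c ∈ S, ∀ q, c * L.Y q * c⁻¹ = L.Y (T.A.f (π c) q) := by
    intro c hc
    rw [hS, ← Subgroup.mem_toSubmonoid, Subgroup.closure_toSubmonoid_of_finite] at hc
    induction hc using Submonoid.closure_induction_left with
    | one => simp
    | mul_left a ha b hb ih =>
      intro q
      rw [map_mul, map_mul, Equiv.Perm.mul_apply, show a * b * L.Y q * (a * b)⁻¹ = a * (b * L.Y q * b⁻¹) * a⁻¹ by
        group, ih]
      rcases ha with ⟨p, rfl⟩ | ha
      · rw [L.proj, inv_eq_of_mul_eq_one_left (L.sq p), L.conj]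
      · rw [Set.mem_singleton_iff] at ha
        subst ha
        rw [hd.proj_z, map_one, Equiv.Perm.one_apply, (hd.central _).eq, mul_inv_cancel_right]
  refine hS' c ?_ q
  have hmap : π c ∈ S.map π := by
    have : (⊤ : Subgroup Q) ≤ S.map π := by
      rw [← T.A.gen, Subgroup.closure_le]
      rintro _ ⟨g, hg, rfl⟩
      exact ⟨L.Y ⟨_, T.A.pts_lt hg⟩, hS ▸ Subgroup.subset_closure (Or.inl ⟨_, rfl⟩),
        by rw [L.proj, T.A.delta_pts hg]⟩
    exact this (Subgroup.mem_top _)
  obtain ⟨b, hb, e⟩ := hmap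
  have hzS : z ∈ S := hS ▸ Subgroup.subset_closure (Or.inr rfl)
  rcases hd.eq_or e.symm with h | h <;> rw [h]
  exacts [hb, mul_mem hb hzS]

/-- The lift of one of the twenty-two. -/
noncomputable def genL (j : ℕ) : C := L.val (clique.getD j 0)

theorem genL_eq {j : ℕ} (hj : j < 22) : genL T L j = L.Y (P j hj) := by
  rw [genL, TransTable.Lifts.val, dif_pos (clique_spec hj).2.2]
  rfl

theorem genL_sq (j : ℕ) : genL T L j * genL T L j = 1 := by
  rw [genL, TransTable.Lifts.val]
  split
  · exact L.sq _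
  · exact one_mul 1

theorem genL_proj {j : ℕ} (hj : j < 22) : π (genL T L j) = gen T j := by
  rw [genL_eq T L hj, L.proj, delta_P T hj]

theorem genL_commute {i j : ℕ} (hi : i < 22) (hj : j < 22) : Commute (genL T L i) (genL T L j) := by
  rw [genL_eq T L hi, genL_eq T L hj]
  have h := L.conj (P i hi) (P j hj)
  rw [(T.A.commute_delta_iff (T.A.delta (P i hi)) (P j hj)).1 (by
    rw [delta_P T hi, delta_P T hj]; exact gen_commute T hi hj)] at h
  show _ = _
  calc L.Y (P i hi) * L.Y (P j hj)
      = L.Y (P i hi) * L.Y (P j hj) * L.Y (P i hi) * L.Y (P i hi) := by rw [mul_assoc _ (L.Y (P i hi)) (L.Y (P i hi)), L.sq, mul_one]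
    _ = L.Y (P j hj) * L.Y (P i hi) := by rw [h]

/-- The product of lifted basis transpositions. -/
noncomputable def evL : ℕ → ℕ → C
  | 0, _ => 1
  | k + 1, v => evL k v * if v.testBit k then genL T L (basisIdx.getD k 0) else 1

variable (z) in
/-- The element with given coordinates. -/
noncomputable def ev11 (v : ℕ) : C := evL T L 10 v * if v.testBit 10 then z else 1

theorem evL_commute {j : ℕ} (hj : j < 22) : ∀ {k : ℕ}, k ≤ 10 → ∀ v, Commute (genL T L j) (evL T L k v)
  | 0, _, v => Commute.one_right _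
  | k + 1, hk, v => by
    rw [evL]
    refine (evL_commute hj (by omega) v).mul_right ?_
    split_ifs
    · exact genL_commute T L hj (basis_spec (by omega)).1
    · exact Commute.one_right _

theorem evL_proj : ∀ {k : ℕ}, k ≤ 10 → ∀ v, π (evL T L k v) = ev T k v
  | 0, _, v => map_one π
  | k + 1, hk, v => by
    rw [evL, ev, map_mul, evL_proj (by omega)]
    congr 1
    split_ifs
    · exact genL_proj T L (basis_spec (by omega)).1
    · exact map_one π

theorem evL_xor : ∀ {k : ℕ}, k ≤ 10 → ∀ u v, evL T L k (u ^^^ v) = evL T L k u * evL T L k v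
  | 0, _, u, v => (one_mul 1).symm
  | k + 1, hk, u, v => by
    simp only [evL, evL_xor (k := k) (by omega) u v, Nat.testBit_xor]
    have hb : basisIdx.getD k 0 < 22 := (basis_spec (by omega)).1
    have hc := evL_commute T L hb (k := k) (by omega) v
    obtain ⟨a, ha⟩ : ∃ a, a = genL T L (basisIdx.getD k 0) := ⟨_, rfl⟩
    have hsq : a * a = 1 := ha ▸ genL_sq T L _
    rw [← ha] at hc ⊢
    cases u.testBit k <;> cases v.testBit k
    · simp
    · simp [mul_assoc]
    · simpa [mul_assoc] using hc.symm.eq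
    · simp only [Bool.xor_self, Bool.false_eq_true, ↓reduceIte, mul_one]
      calc evL T L k u * evL T L k v = evL T L k u * (a * evL T L k v * a) := by
            rw [hc.eq, mul_assoc (evL T L k v) a a, hsq, mul_one]
        _ = evL T L k u * a * (evL T L k v * a) := by simp only [mul_assoc]

theorem evL_zero : ∀ k, evL T L k 0 = 1
  | 0 => rfl
  | k + 1 => by simp [evL, evL_zero k]

theorem evL_pow (k : ℕ) : ∀ K, evL T L K (2 ^ k) = if k < K then genL T L (basisIdx.getD k 0) else 1
  | 0 => by simp [evL]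
  | K + 1 => by
    rw [evL, evL_pow k K, Nat.testBit_two_pow]
    rcases Nat.lt_trichotomy k K with h | h | h
    · simp [h, h.ne, Nat.lt_succ_of_lt h]
    · simp [h]
    · simp [Nat.not_lt.2 h.le, h.ne', Nat.not_lt.2 h]

variable (hd : IsDouble π z)
include hd

theorem ev11_proj (v : ℕ) : π (ev11 z T L v) = ev T 10 v := by
  rw [ev11, map_mul, evL_proj T L le_rfl]
  split_ifs <;> simp [hd.proj_z]

theorem ev11_xor (u v : ℕ) : ev11 z T L (u ^^^ v) = ev11 z T L u * ev11 z T L v := by
  simp only [ev11, evL_xor T L le_rfl, Nat.testBit_xor]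
  have hc := fun c => (hd.central c).eq
  cases u.testBit 10 <;> cases v.testBit 10
  · simp
  · simp [mul_assoc]
  · simp [mul_assoc, hc]
  · simp only [Bool.xor_self, Bool.false_eq_true, ↓reduceIte, mul_one]
    calc evL T L 10 u * evL T L 10 v = evL T L 10 u * evL T L 10 v * (z * z) := by rw [hd.sq, mul_one]
      _ = evL T L 10 u * (evL T L 10 v * z) * z := by simp only [mul_assoc]
      _ = evL T L 10 u * (z * evL T L 10 v) * z := by rw [hc]
      _ = evL T L 10 u * z * (evL T L 10 v * z) := by simp only [mul_assoc]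

theorem ev11_zero : ev11 z T L 0 = 1 := by simp [ev11, evL_zero]

theorem ev11_top : ev11 z T L 1024 = z := by
  rw [ev11, show (1024 : ℕ) = 2 ^ 10 from rfl, evL_pow, if_neg (lt_irrefl 10), one_mul, if_pos]
  decide

theorem ev11_inj {u v : ℕ} (hu : u < 2048) (hv : v < 2048) (h : ev11 z T L u = ev11 z T L v) : u = v := by
  have hw : ev11 z T L (u ^^^ v) = 1 := by rw [ev11_xor T L hd, h, ← ev11_xor T L hd, Nat.xor_self, ev11_zero T L hd]
  by_contra hne
  obtain ⟨w, hwd⟩ : ∃ w, w = u ^^^ v := ⟨_, rfl⟩
  have hwlt : w < 2048 := hwd ▸ Nat.xor_lt_two_pow (n := 11) hu hv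
  have hw0 : w ≠ 0 := by rw [hwd]; simpa [Nat.xor_eq_zero_iff] using hne
  rw [← hwd] at hw
  have h1 := congrArg π hw
  rw [ev11_proj T L hd, map_one] at h1
  have h2 : w % 1024 = 0 := by
    by_contra h2
    refine ev_ne_one T h2 (Nat.mod_lt _ (by norm_num)) ?_
    rw [← h1]
    have : ∀ k ≤ 10, ev T k (w % 1024) = ev T k w := by
      intro k hk
      induction k with
      | zero => rfl
      | succ k ih =>
        rw [ev, ev, ih (by omega), show (1024 : ℕ) = 2 ^ 10 from rfl, Nat.testBit_mod_two_pow,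
          decide_eq_true (show k < 10 by omega), Bool.true_and]
    exact this 10 le_rfl
  have : w = 1024 := by omega
  rw [this, ev11_top T L hd] at hw
  exact hd.ne hw

/-- The preimage of the group of the twenty-two. -/
theorem mem_coverBase {c : C} : c ∈ (base T).comap π ↔ ∃ v < 2048, ev11 z T L v = c := by
  constructor
  · rintro ⟨v, hv, hvc⟩
    rw [← ev11_proj T L hd] at hvc
    rcases hd.eq_or hvc.symm with e | e
    · exact ⟨v, by omega, e.symm⟩
    · exact ⟨v ^^^ 1024, Nat.xor_lt_two_pow (n := 11) (by omega) (by norm_num),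
        by rw [ev11_xor T L hd, ev11_top T L hd, e]⟩
  · rintro ⟨v, hv, rfl⟩
    show π _ ∈ base T
    rw [ev11_proj T L hd, ← evL_proj T L le_rfl]
    have : ∀ k ≤ 10, π (evL T L k v) ∈ base T := by
      intro k hk
      induction k with
      | zero => rw [evL, map_one]; exact one_mem _
      | succ k ih =>
        rw [evL, map_mul]
        refine mul_mem (ih (by omega)) ?_
        split_ifs
        · rw [genL_proj T L (basis_spec (by omega)).1]; exact gen_mem T (basis_spec (by omega)).1
        · rw [map_one]; exact one_mem _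
    exact this 10 le_rfl

include L in
theorem coverBase_elementary : Cfsg.IsElementaryAbelian 2 ((base T).comap π) := by
  refine ⟨⟨⟨fun a b => Subtype.ext ?_⟩⟩, fun a ha => ?_⟩
  · obtain ⟨u, -, hu⟩ := (mem_coverBase T L hd).1 a.2
    obtain ⟨v, -, hv⟩ := (mem_coverBase T L hd).1 b.2
    show (a : C) * b = b * a
    rw [← hu, ← hv, ← ev11_xor T L hd, ← ev11_xor T L hd, Nat.xor_comm]
  · obtain ⟨u, -, hu⟩ := (mem_coverBase T L hd).1 ha
    rw [← hu, pow_two, ← ev11_xor T L hd, Nat.xor_self, ev11_zero T L hd]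

omit hd in
variable (z) in
/-- Coordinates of the lifts. -/
def IsCoord (tb : List ℕ) : Prop := tb.length = 22 ∧ ∀ j < 22, tb.getD j 0 < 2048 ∧ genL T L j = ev11 z T L (tb.getD j 0)

theorem conj_ev11 {tb : List ℕ} (htb : IsCoord z T L tb) {c : C} {h : List ℕ} (hc : PermBy T (π c) h) (v : ℕ) :
    c * ev11 z T L v * c⁻¹ = ev11 z T L (act11 basisIdx tb h v) ∧ act11 basisIdx tb h v < 2048 := by
  have key : ∀ k ≤ 10, c * (evL T L k v * if v.testBit 10 then z else 1) * c⁻¹ =
      ev11 z T L (actTop basisIdx tb h k v) ∧ actTop basisIdx tb h k v < 2048 := by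
    intro k hk
    induction k with
    | zero =>
      rw [actTop, evL, one_mul]
      cases v.testBit 10
      · simp [ev11_zero T L hd]
      · simp [ev11_top T L hd, ← (hd.central c).eq]
    | succ k ih =>
      obtain ⟨ih1, ih2⟩ := ih (by omega)
      rw [evL, actTop]
      cases hbit : v.testBit k
      · rw [if_neg (by simp), mul_one, cond_false]; exact ⟨ih1, ih2⟩
      · have hb := (basis_spec (k := k) (by omega)).1
        obtain ⟨hj, e⟩ := hc _ hb
        have h1 : c * genL T L (basisIdx.getD k 0) * c⁻¹ = ev11 z T L (tb.getD (h.getD (basisIdx.getD k 0) 0) 0) := by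
          rw [genL_eq T L hb, equivariant T L hd, e, ← genL_eq T L hj, (htb.2 _ hj).2]
        rw [if_pos rfl, cond_true]
        refine ⟨?_, Nat.xor_lt_two_pow (n := 11) ih2 (htb.2 _ hj).1⟩
        show _ = ev11 z T L (_ ^^^ _)
        rw [ev11_xor T L hd, ← ih1, ← h1]
        have hcm := (hd.central (genL T L (basisIdx.getD k 0))).eq
        split_ifs
        · rw [mul_assoc (evL T L k v) _ z, ← hcm]; group
        · group
  exact key 10 le_rfl

omit hd in
theorem exists_lift_word (hd : IsDouble π z) (w : List ℕ) : ∃ c : C, π c = wordVal T.A.x w := hd.surj _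

/-- The only possible coordinates, up to the choice of the lifts. -/
theorem exists_coord : ∃ tb ∈ tables, IsCoord z T L tb := by
  classical
  obtain ⟨tb, htb⟩ : ∃ tb, tb = (List.range 22).map fun j =>
      if genL T L j = ev11 z T L (vec.getD j 0) then vec.getD j 0 else Nat.xor (vec.getD j 0) 1024 := ⟨_, rfl⟩
  have hval : ∀ j < 22, tb.getD j 0 =
      if genL T L j = ev11 z T L (vec.getD j 0) then vec.getD j 0 else Nat.xor (vec.getD j 0) 1024 := fun j hj => by
    rw [htb]; simp [hj]
  have hC : IsCoord z T L tb := by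
    refine ⟨by simp [htb], fun j hj => ?_⟩
    obtain ⟨hlt, he⟩ := ev_vec T hj
    rw [hval j hj]
    split_ifs with h
    · exact ⟨by omega, h⟩
    · refine ⟨Nat.xor_lt_two_pow (n := 11) (show vec.getD j 0 < 2 ^ 11 by omega) (by norm_num), ?_⟩
      show _ = ev11 z T L (vec.getD j 0 ^^^ 1024)
      rw [ev11_xor T L hd, ev11_top T L hd]
      exact (hd.eq_or (by rw [genL_proj T L hj, ev11_proj T L hd, he])).resolve_left h
  refine ⟨tb, ?_, hC⟩
  have hsec : tb ∈ (choicesOf basisIdx vec).sections := by
    rw [List.mem_sections, htb, choicesOf, List.forall₂_map_left_iff, List.forall₂_map_right_iff,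
      List.forall₂_same]
    intro j hj
    rw [List.mem_range] at hj
    cases hcb : basisIdx.contains j
    · simp only [cond_false, List.mem_cons, List.not_mem_nil, or_false]
      split_ifs <;> simp
    · simp only [cond_true, List.mem_singleton]
      rw [List.contains_eq_mem, decide_eq_true_eq] at hcb
      obtain ⟨k, hk, hkj⟩ := List.mem_iff_getElem.1 hcb
      have hk10 : k < 10 := hk
      have hkj' : basisIdx.getD k 0 = j := by rw [List.getD_eq_getElem _ _ hk, hkj]
      have hv : vec.getD j 0 = 2 ^ k := hkj' ▸ (basis_spec hk10).2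
      rw [if_pos]
      rw [hv, ev11, evL_pow, if_pos hk10, hkj', if_neg (by
        simp [Nat.testBit_two_pow]; omega), mul_one]
  have hcompat : (normPerm.all fun h => compatOK basisIdx tb h) = true := by
    rw [List.all_eq_true]
    intro h hh
    obtain ⟨i, hi, rfl⟩ := List.mem_iff_getElem.1 hh
    have hi8 : i < 8 := normGens_ok.2.2 ▸ hi
    have hp := permBy_of_check T (List.all_eq_true.1 normGens_ok.1 i (List.mem_range.2 hi8))
    rw [List.getD_eq_getElem _ _ hi] at hp
    obtain ⟨c, hc⟩ := exists_lift_word T hd (normGens.getD i [])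
    rw [compatOK, List.all_eq_true]
    intro j hj
    rw [List.mem_range] at hj
    rw [Nat.beq_eq]
    rw [← hc] at hp
    obtain ⟨hj', e⟩ := hp j hj
    obtain ⟨h1, h2⟩ := conj_ev11 T L hd hC hp (tb.getD j 0)
    refine ev11_inj T L hd h2 (hC.2 _ hj').1 ?_
    rw [← h1, ← (hC.2 j hj).2, ← (hC.2 _ hj').2, genL_eq T L hj, equivariant T L hd, e, genL_eq T L hj']
  have h := List.all_eq_true.1 tables_ok tb hsec
  rw [Bool.or_eq_true, Bool.not_eq_true', hcompat, List.contains_eq_mem, decide_eq_true_eq] at h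
  exact h.resolve_left (by simp)

omit hd in
theorem evL_flip (hd : IsDouble π z) : ∀ {k : ℕ}, k ≤ 10 → ∀ v,
    evL T (flipLifts T L hd) k v = evL T L k v * ev11 z T L (parTop k v)
  | 0, _, v => by simp [evL, parTop, ev11_zero T L hd]
  | k + 1, hk, v => by
    have hb := (basis_spec (k := k) (by omega)).1
    rw [evL, evL, evL_flip hd (by omega), parTop]
    cases v.testBit k
    · simp
    · rw [if_pos rfl, if_pos rfl, cond_true,
        show genL T (flipLifts T L hd) (basisIdx.getD k 0) = genL T L (basisIdx.getD k 0) * z by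
          rw [genL_eq T _ hb, genL_eq T L hb]; rfl]
      show _ = _ * ev11 z T L (parTop k v ^^^ 1024)
      rw [ev11_xor T L hd, ev11_top T L hd]
      have hc := fun c => (hd.central c).eq
      have hc2 : Commute (ev11 z T L (parTop k v)) (genL T L (basisIdx.getD k 0)) := by
        rw [ev11]
        refine (evL_commute T L hb le_rfl _).symm.mul_left ?_
        split_ifs
        · exact hd.central _
        · exact Commute.one_left _
      rw [mul_assoc, ← mul_assoc (ev11 z T L _) (genL T L _) z, hc2.eq]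
      simp only [mul_assoc]

omit hd in
theorem parTop_congr : ∀ (k : ℕ) {u v : ℕ}, k ≤ 10 → u % 1024 = v % 1024 → parTop k u = parTop k v
  | 0, _, _, _, _ => rfl
  | k + 1, u, v, hk, h => by
    have hb : ∀ w : ℕ, w.testBit k = (w % 2 ^ 10).testBit k := fun w => by
      rw [Nat.testBit_mod_two_pow, decide_eq_true (show k < 10 by omega), Bool.true_and]
    rw [parTop, parTop, hb u, hb v, show (2 : ℕ) ^ 10 = 1024 from rfl, h, parTop_congr k (by omega) h]

omit hd in
theorem parTop_cases : ∀ (k v : ℕ), parTop k v = 0 ∨ parTop k v = 1024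
  | 0, _ => Or.inl rfl
  | k + 1, v => by
    rw [parTop]
    cases v.testBit k
    · exact parTop_cases k v
    · rcases parTop_cases k v with h | h <;> rw [h] <;> decide

theorem isCoord_flip {tb : List ℕ} (htb : IsCoord z T L tb)
    (hlow : ∀ j < 22, tb.getD j 0 % 1024 = vec.getD j 0) :
    IsCoord z T (flipLifts T L hd) (flipTable vec tb) := by
  refine ⟨by simp [flipTable], fun j hj => ?_⟩
  have hv : (flipTable vec tb).getD j 0 = tb.getD j 0 ^^^ 1024 ^^^ parTop 10 (vec.getD j 0) := by
    simp [flipTable, hj]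
  obtain ⟨hlt, he⟩ := htb.2 j hj
  have hp1024 : parTop 10 (vec.getD j 0) < 2 ^ 11 := by rcases parTop_cases 10 (vec.getD j 0) with h | h <;> omega
  rw [hv]
  refine ⟨Nat.xor_lt_two_pow (n := 11) (Nat.xor_lt_two_pow hlt (by norm_num)) hp1024, ?_⟩
  obtain ⟨t, ht⟩ : ∃ t, t = tb.getD j 0 ^^^ 1024 ^^^ parTop 10 (vec.getD j 0) := ⟨_, rfl⟩
  have hev : ev11 z T (flipLifts T L hd) t = ev11 z T L (t ^^^ parTop 10 t) := by
    rw [ev11_xor T L hd, ev11, ev11, evL_flip T L hd le_rfl]
    simp only [mul_assoc]
    congr 1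
    split_ifs
    · exact (hd.central _).eq.symm
    · simp [ev11]
  have hpar : parTop 10 t = parTop 10 (vec.getD j 0) := by
    refine parTop_congr 10 le_rfl ?_
    have hm : ∀ a b : ℕ, (a ^^^ b) % 1024 = (a % 1024) ^^^ (b % 1024) := fun a b => Nat.xor_mod_two_pow (n := 10)
    rw [ht, hm, hm, hlow j hj]
    rcases parTop_cases 10 (vec.getD j 0) with h | h <;> rw [h] <;>
      simp only [Nat.reduceMod, Nat.xor_zero, Nat.zero_mod] <;> exact (Nat.mod_eq_of_lt (ev_vec T hj).1).symm
  rw [← ht, hev, hpar, ht, Nat.xor_assoc (tb.getD j 0 ^^^ 1024), Nat.xor_self, Nat.xor_zero,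
    ev11_xor T L hd, ev11_top T L hd, ← he, genL_eq T _ hj, genL_eq T L hj]
  rfl

end Cfsg.Lib.CosetEnum.Fi22Two
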