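import Cfsg.Agent.Lib.CosetEnum.Fi22Two.Split
import Cfsg.Agent.Lib.Fischer.Relations.Centralizer.InvolLift

/-!
# Lifts of the class and the Thompson subgroup in a double cover of a group of type M(22)
-/

set_option autoImplicit false
set_option linter.unusedSectionVars false

namespace Cfsg.Lib.CosetEnum.Fi22Two

open Fi22Norm (Fi22Tab)
open Cfsg.Lib.Fischer Cfsg.Lib.Fischer.Relations
open scoped commutatorElement

/-- A preimage of an element with perfect centraliser commutes with everything over the centraliser. -/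
theorem fix_over_perfect {C Q : Type*} [Group C] [Group Q] {σ : C →* Q} (hσ : Function.Surjective σ)
    (hker : σ.ker ≤ Subgroup.center C) {d : Q} {x₀ : C} (hx₀ : σ x₀ = d)
    (hperf : Subgroup.centralizer ({d} : Set Q) ≤
      ⁅Subgroup.centralizer ({d} : Set Q), Subgroup.centralizer ({d} : Set Q)⁆) :
    ∀ a : C, σ a ∈ Subgroup.centralizer ({d} : Set Q) → a * x₀ = x₀ * a := by
  obtain ⟨K, hK⟩ : ∃ K, K = (Subgroup.centralizer ({d} : Set Q)).comap σ := ⟨_, rfl⟩
  have hζ : ∀ a ∈ K, a * x₀ * a⁻¹ * x₀⁻¹ ∈ Subgroup.center C := fun a ha => hker (by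
    rw [hK, Subgroup.mem_comap, Subgroup.mem_centralizer_singleton_iff] at ha
    rw [MonoidHom.mem_ker, map_mul, map_mul, map_mul, map_inv, map_inv, hx₀, ha, mul_inv_cancel_right,
      mul_inv_cancel])
  let χ : K →* Subgroup.center C :=
    { toFun := fun a => ⟨_, hζ a.1 a.2⟩
      map_one' := Subtype.ext (by simp)
      map_mul' := fun a b => Subtype.ext (by
        show a.1 * b.1 * x₀ * (a.1 * b.1)⁻¹ * x₀⁻¹ =
          (a.1 * x₀ * a.1⁻¹ * x₀⁻¹) * (b.1 * x₀ * b.1⁻¹ * x₀⁻¹)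
        have hz := Subgroup.mem_center_iff.1 (hζ b.1 b.2)
        calc a.1 * b.1 * x₀ * (a.1 * b.1)⁻¹ * x₀⁻¹
            = a.1 * (b.1 * x₀ * b.1⁻¹ * x₀⁻¹) * (x₀ * a.1⁻¹ * x₀⁻¹) := by group
          _ = (b.1 * x₀ * b.1⁻¹ * x₀⁻¹) * a.1 * (x₀ * a.1⁻¹ * x₀⁻¹) := by rw [hz a.1]
          _ = (b.1 * x₀ * b.1⁻¹ * x₀⁻¹) * (a.1 * x₀ * a.1⁻¹ * x₀⁻¹) := by group
          _ = (a.1 * x₀ * a.1⁻¹ * x₀⁻¹) * (b.1 * x₀ * b.1⁻¹ * x₀⁻¹) := (hz _).symm) }
  have hcomm : ∀ k ∈ ⁅K, K⁆, k * x₀ = x₀ * k := by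
    intro k hk
    have hle : ⁅K, K⁆ ≤ χ.ker.map K.subtype := by
      rw [Subgroup.commutator_le]
      intro a ha b hb
      refine ⟨⁅(⟨a, ha⟩ : K), ⟨b, hb⟩⁆, ?_, rfl⟩
      rw [SetLike.mem_coe, MonoidHom.mem_ker, map_commutatorElement, commutatorElement_eq_one_iff_mul_comm]
      exact Subtype.ext ((Subgroup.mem_center_iff.1 (χ ⟨a, ha⟩).2 _).symm)
    obtain ⟨a, ha, rfl⟩ := hle hk
    have h : a.1 * x₀ * a.1⁻¹ * x₀⁻¹ = 1 := congrArg Subtype.val (MonoidHom.mem_ker.1 ha)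
    rwa [mul_inv_eq_one, mul_inv_eq_iff_eq_mul] at h
  intro a ha
  have h1 : σ a ∈ (⁅K, K⁆).map σ := by
    rw [Subgroup.map_commutator, hK, Subgroup.map_comap_eq_self_of_surjective hσ]
    exact hperf ha
  obtain ⟨c, hc, hca⟩ := h1
  have hz := Subgroup.mem_center_iff.1 (hker (show c⁻¹ * a ∈ σ.ker by
    rw [MonoidHom.mem_ker, map_mul, map_inv, hca, inv_mul_cancel])) x₀
  calc a * x₀ = c * ((c⁻¹ * a) * x₀) := by group
    _ = c * x₀ * (c⁻¹ * a) := by rw [← hz, mul_assoc]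
    _ = x₀ * c * (c⁻¹ * a) := by rw [hcomm c hc]
    _ = x₀ * a := by group

variable {Q : Type*} [Group Q] [Finite Q] {E : Set Q}
variable {C : Type*} [Group C] [Finite C] {π : C →* Q} {z : C}

/-- Lifts of the class. -/
theorem exists_lifts_cover [IsSimpleGroup Q] (hE : Cfsg.IsThreeTranspositionClass E) (h22 : Cfsg.IsOfTypeM22 Q E)
    (hd : IsDouble π z) (T : Fi22Tab Q E) : Nonempty (T.A.Lifts π) := by
  have hker : π.ker ≤ Subgroup.center C := fun c hc => by
    rcases (hd.ker_iff c).1 hc with rfl | rfl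
    · exact one_mem _
    · exact Subgroup.mem_center_iff.2 fun g => (hd.central g).eq.symm
  have hexp : ∀ k ∈ π.ker, k * k = 1 := fun c hc => by
    rcases (hd.ker_iff c).1 hc with rfl | rfl
    exacts [one_mul 1, hd.sq]
  have hdE : T.A.d ∈ E := (Set.ext_iff.1 T.class_eq _).1 (IsConj.refl _)
  have ho := hE.1.1 _ hdE
  obtain ⟨x₀, hx₀, hx2⟩ := m22_involution_lift π hd.surj hker hexp hE h22 T.A.d ho
  have hperf : Subgroup.centralizer ({T.A.d} : Set Q) ≤
      ⁅Subgroup.centralizer ({T.A.d} : Set Q), Subgroup.centralizer ({T.A.d} : Set Q)⁆ := by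
    obtain ⟨hZ, d₁, hd₁, c₁, hc₁, hnc, ⟨F, i₁, i₂, hF, ⟨e₁⟩⟩, -⟩ := id h22
    have hF' : Fintype.card F = 2 ^ 2 := hF
    have hT := trans_of_class hE
    have hprim := primitive_of_simple hT ⟨d₁, hd₁, c₁, hc₁, fun h => hnc (h ▸ Commute.refl d₁)⟩ hZ
    obtain ⟨-, hsep, F₂, _, _, hF₂, hU⟩ := m22_setup hT hprim h22
    obtain ⟨b₁, hb₁⟩ := perp_nonempty_of_psu (D := E) (d := d₁) hF' e₁
    have hFD := isFischer_of_primitive hT hprim ⟨d₁, hd₁, b₁, hb₁.1, Ne.symm hb₁.2.1, hb₁.2.2⟩ hZ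
    obtain ⟨-, hH⟩ := perp_perfect hFD hU hdE hprim hZ hsep
    rw [← centralizer_eq_closure hT hprim h22 hdE, hH]
  have hfix := fix_over_perfect hd.surj hker hx₀ hperf
  choose m hm using fun p : Fin 3510 => hd.surj (T.A.mover p)
  have hX : ∀ a : C, m (T.A.f (π a) T.A.p₀) * x₀ * (m (T.A.f (π a) T.A.p₀))⁻¹ = a * x₀ * a⁻¹ := by
    intro a
    obtain ⟨p, hp⟩ : ∃ p, p = T.A.f (π a) T.A.p₀ := ⟨_, rfl⟩
    rw [← hp]
    have h := hfix ((m p)⁻¹ * a) (by
      rw [Subgroup.mem_centralizer_singleton_iff, ← T.A.stab, map_mul, map_inv, hm, map_mul,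
        Equiv.Perm.mul_apply, ← hp, map_inv, Equiv.Perm.inv_def, Equiv.symm_apply_eq, T.A.mover_spec])
    calc m p * x₀ * (m p)⁻¹ = m p * (x₀ * ((m p)⁻¹ * a)) * a⁻¹ := by group
      _ = a * x₀ * a⁻¹ := by rw [← h]; group
  refine ⟨⟨fun p => m p * x₀ * (m p)⁻¹, fun p => ?_, fun p => ?_, fun p q => ?_⟩⟩
  · rw [map_mul, map_mul, map_inv, hm, hx₀]
    rfl
  · calc m p * x₀ * (m p)⁻¹ * (m p * x₀ * (m p)⁻¹) = m p * (x₀ * x₀) * (m p)⁻¹ := by group
      _ = 1 := by rw [hx2, mul_one, mul_inv_cancel]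
  · have h := hX (m p * x₀ * (m p)⁻¹ * m q)
    have hπ : π (m p * x₀ * (m p)⁻¹ * m q) = T.A.delta p * T.A.mover q := by
      simp only [map_mul, map_inv, hm, hx₀]; rfl
    rw [hπ, map_mul, Equiv.Perm.mul_apply, T.A.mover_spec] at h
    show m p * x₀ * (m p)⁻¹ * (m q * x₀ * (m q)⁻¹) * (m p * x₀ * (m p)⁻¹) = _
    refine Eq.trans ?_ h.symm
    have hinv : (m p * x₀ * (m p)⁻¹)⁻¹ = m p * x₀ * (m p)⁻¹ := by
      rw [mul_inv_rev, mul_inv_rev, inv_inv, inv_eq_of_mul_eq_one_left hx2, mul_assoc]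
    rw [mul_inv_rev, hinv]
    group

variable (T : Fi22Tab Q E) (hd : IsDouble π z)
include hd

/-- The preimage of a Sylow 2-subgroup. -/
theorem exists_tab_cover (T₀ : Fi22Tab Q E) (S : Sylow 2 C) :
    ∃ T' : Fi22Tab Q E, (twoGroup T').comap π = (S : Subgroup C) := by
  have : Fact (Nat.Prime 2) := ⟨Nat.prime_two⟩
  obtain ⟨T', hT'⟩ := exists_tab_sylow T₀ (S.mapSurjective hd.surj)
  refine ⟨T', ?_⟩
  have hz : z ∈ (S : Subgroup C) := by
    have hP : IsPGroup 2 ↥((S : Subgroup C) ⊔ Subgroup.zpowers z) := by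
      refine IsPGroup.to_sup_of_normal_right' S.isPGroup' ?_ ?_
      · exact IsPGroup.of_card (n := 1) (by rw [Nat.card_zpowers, orderOf_eq_prime (by rw [pow_two, hd.sq]) hd.ne]; rfl)
      · refine le_trans le_top (le_of_eq (Subgroup.normalizer_eq_top_iff.2 ⟨fun a ha g => ?_⟩).symm)
        obtain ⟨i, rfl⟩ := Subgroup.mem_zpowers_iff.1 ha
        rw [(((hd.central g).zpow_left i)).eq.symm, mul_inv_cancel_right]
        exact ⟨i, rfl⟩
    exact (S.is_maximal' hP le_sup_left) ▸ Subgroup.mem_sup_right (Subgroup.mem_zpowers z)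
  rw [hT', Sylow.coe_mapSurjective, Subgroup.comap_map_eq, sup_eq_left]
  intro c hc
  rcases (hd.ker_iff c).1 hc with rfl | rfl
  exacts [one_mem _, hz]

theorem thompson_cover (L : T.A.Lifts π) : Cfsg.thompsonSubgroupOf 2 ((twoGroup T).comap π) = (base T).comap π ∧
    ∀ B : Subgroup C, B ≤ (twoGroup T).comap π → Cfsg.IsElementaryAbelian 2 B →
      2048 ≤ Nat.card B → B = (base T).comap π := by
  have hEA := coverBase_elementary T L hd
  have hle : (base T).comap π ≤ (twoGroup T).comap π := Subgroup.comap_mono (base_le T)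
  have hcK : Nat.card ((base T).comap π) = 2048 := by rw [hd.card_comap, card_base]
  have key : ∀ B : Subgroup C, B ≤ (twoGroup T).comap π → Cfsg.IsElementaryAbelian 2 B →
      B ≤ (base T).comap π ∨ Nat.card B < 2048 := by
    intro B hB hE
    by_cases h : B.map π ≤ base T
    · exact Or.inl fun x hx => h ⟨x, hx, rfl⟩
    · refine Or.inr ?_
      have h1 : Nat.card B ≤ Nat.card ((B.map π).comap π) := Subgroup.card_le_of_le (Subgroup.le_comap_map _ _)
      rw [hd.card_comap] at h1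
      have h2 := small_of_ne T (Subgroup.map_le_iff_le_comap.2 hB) (Lib.Thompson.isEA_map π hE) h
      omega
  refine ⟨?_, fun B hB hE hc => ?_⟩
  · have hEA' : Cfsg.IsElementaryAbelian 2 (((base T).comap π).subgroupOf ((twoGroup T).comap π)) :=
      Lib.Thompson.isEA_subgroupOf hEA _
    have hcard : Nat.card (((base T).comap π).subgroupOf ((twoGroup T).comap π)) = 2048 := by
      rw [Nat.card_congr (Subgroup.subgroupOfEquivOfLe hle).toEquiv, hcK]
    have key' : ∀ B : Subgroup ((twoGroup T).comap π), Cfsg.IsElementaryAbelian 2 B →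
        B ≤ ((base T).comap π).subgroupOf ((twoGroup T).comap π) ∨ Nat.card B < 2048 := by
      intro B hB
      rcases key (B.map ((twoGroup T).comap π).subtype) (Subgroup.map_subtype_le _) (Lib.Thompson.isEA_map _ hB) with
        h | h
      · exact Or.inl fun x hx => h ⟨x, hx, rfl⟩
      · exact Or.inr (by rwa [← Subgroup.card_map_of_injective ((twoGroup T).comap π).subtype_injective])
    have hset : Cfsg.maxElementaryAbelianSubgroups 2 ((twoGroup T).comap π) =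
        {((base T).comap π).subgroupOf ((twoGroup T).comap π)} := by
      refine Set.eq_singleton_iff_unique_mem.2 ⟨⟨hEA', fun B hB => ?_⟩, fun B hB => ?_⟩
      · rcases key' B hB with h | h
        · exact Subgroup.card_le_of_le h
        · omega
      · have h1 := hB.2 _ hEA'
        rcases key' B hB.1 with h | h
        · exact Subgroup.eq_of_le_of_card_ge h h1
        · omega
    rw [Cfsg.thompsonSubgroupOf, Cfsg.thompsonSubgroup, hset, sSup_singleton,
      Subgroup.map_subgroupOf_eq_of_le hle]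
  · rcases key B hB hE with h | h
    · exact Subgroup.eq_of_le_of_card_ge h (hcK ▸ hc)
    · omega

end Cfsg.Lib.CosetEnum.Fi22Two
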