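import Cfsg.Agent.Lib.CosetEnum.Fi22Two.Setup

/-!
# Twenty-three conjugates of the involution in the group of order two to the eleven
-/

set_option autoImplicit false
set_option linter.unusedSectionVars false
set_option maxRecDepth 30000

namespace Cfsg.Lib.CosetEnum.Fi22Two

open Fi22U62 (tabP)

variable {G : Type*} [Group G] [Finite G] {d : G} {Q : Type*} [Group Q] [Finite Q] {E : Set Q}

/-- A sign. -/
def IsSign (f : ℕ) : Prop := f = 0 ∨ f = 1024

theorem sign_low {f : ℕ} (hf : IsSign f) (v : ℕ) : (v ^^^ f) % 1024 = v % 1024 := by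
  rcases hf with rfl | rfl
  · simp
  · exact low_xor_top v

theorem sign_lt {f : ℕ} (hf : IsSign f) {v : ℕ} (hv : v < 2048) : v ^^^ f < 2048 :=
  Nat.xor_lt_two_pow (n := 11) hv (by rcases hf with rfl | rfl <;> norm_num)

theorem single_low {j f : ℕ} (hj : j < 22) (hf : IsSign f) : (coord.getD j 0 ^^^ f) % 1024 = vec.getD j 0 := by
  rw [sign_low hf, coord_low hj]

theorem double_low {i j f : ℕ} (hi : i < 22) (hj : j < 22) (hf : IsSign f) :
    (coord.getD i 0 ^^^ coord.getD j 0 ^^^ f) % 1024 = vec.getD i 0 ^^^ vec.getD j 0 := by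
  rw [sign_low hf, show (1024 : ℕ) = 2 ^ 10 from rfl, Nat.xor_mod_two_pow, show (2 : ℕ) ^ 10 = 1024 from rfl,
    coord_low hi, coord_low hj]

theorem vec_ne_zero {j : ℕ} (hj : j < 22) : vec.getD j 0 ≠ 0 := by
  simpa using List.all_eq_true.1 vec_perm j (List.mem_range.2 hj)

theorem single_of_mem {v : ℕ} (hv : v ∈ orbPos ∨ v ∈ orbNeg) :
    ∃ j < 22, ∃ f, IsSign f ∧ v = coord.getD j 0 ^^^ f := by
  rcases hv with hv | hv
  · obtain ⟨j, hj, rfl⟩ := mem_pos.1 hv
    exact ⟨j, hj, 0, Or.inl rfl, (Nat.xor_zero _).symm⟩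
  · obtain ⟨j, hj, rfl⟩ := mem_neg.1 hv
    exact ⟨j, hj, 1024, Or.inr rfl, rfl⟩

theorem single_mem {j f : ℕ} (hj : j < 22) (hf : IsSign f) :
    coord.getD j 0 ^^^ f ∈ orbPos ∨ coord.getD j 0 ^^^ f ∈ orbNeg := by
  rcases hf with rfl | rfl
  · exact Or.inl (mem_pos.2 ⟨j, hj, Nat.xor_zero _⟩)
  · exact Or.inr (mem_neg.2 ⟨j, hj, rfl⟩)

theorem single_of_length {l : List ℕ} (hl : l ∈ classList) (h : l.length = 22) : l = orbPos ∨ l = orbNeg := by
  obtain ⟨-, -, h3, h4, h5⟩ := orbit_lengths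
  simp only [classList, List.mem_cons, List.not_mem_nil, or_false] at hl
  rcases hl with rfl | rfl | rfl | rfl | rfl <;> first | exact Or.inl rfl | exact Or.inr rfl | omega

theorem double_of_length {l : List ℕ} (hl : l ∈ classList) (h : l.length = 231) {v : ℕ} (hv : v ∈ l) :
    ∃ i < 22, ∃ j < 22, i ≠ j ∧ ∃ f, IsSign f ∧ v = coord.getD i 0 ^^^ coord.getD j 0 ^^^ f := by
  obtain ⟨h1, h2, -, -, h5⟩ := orbit_lengths
  simp only [classList, List.mem_cons, List.not_mem_nil, or_false] at hl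
  rcases hl with rfl | rfl | rfl | rfl | rfl
  · omega
  · omega
  · obtain ⟨i, hi, j, hj, rfl⟩ := mem_pair.1 hv
    exact ⟨i, hi, j, by omega, by omega, 0, Or.inl rfl, (Nat.xor_zero _).symm⟩
  · obtain ⟨i, hi, j, hj, rfl⟩ := mem_pairNeg.1 hv
    exact ⟨i, hi, j, by omega, by omega, 1024, Or.inr rfl, rfl⟩
  · omega

theorem foldr_five (g : List ℕ → ℕ) : ∀ l : List (List ℕ), l.length = 5 → (l.map g).foldr Nat.xor 0 =
    g (l.getD 0 []) ^^^ g (l.getD 1 []) ^^^ g (l.getD 2 []) ^^^ g (l.getD 3 []) ^^^ g (l.getD 4 [])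
  | [a, b, c, e, f], _ => by
    show g a ^^^ (g b ^^^ (g c ^^^ (g e ^^^ (g f ^^^ 0)))) = _
    simp [Nat.xor_assoc]

theorem sum_ite_flatten (l : List (List ℕ)) (P : List ℕ → Prop) [DecidablePred P] :
    (l.filter fun a => decide (P a)).flatten.length = (l.map fun a => if P a then a.length else 0).sum := by
  induction l with
  | nil => rfl
  | cons a t ih =>
    by_cases h : P a
    · rw [List.filter_cons_of_pos (by simpa using h), List.flatten_cons, List.length_append, ih, List.map_cons,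
        List.sum_cons, if_pos h]
    · rw [List.filter_cons_of_neg (by simpa using h), ih, List.map_cons, List.sum_cons, if_neg h, zero_add]

theorem not_dvd_glOrder : ∀ k ∈ [232, 463, 1541, 1772, 2003, 1563, 1585], ¬ k ∣ glOrder := by
  decide +kernel

theorem rep_mem : 3 ∈ orbPair ∧ 1027 ∈ orbPairNeg := by
  obtain ⟨-, -, h3, h4, -⟩ := pair_rep
  refine ⟨?_, by simpa using h4⟩
  rw [← h3, List.getD_eq_getElem _ _ (by rw [orbit_lengths.2.2.1]; norm_num)]
  exact List.getElem_mem _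

namespace Setup

variable (U : Setup d Q E)

/-- Some member of the class is a conjugate of `d`. -/
def In (l : List ℕ) : Prop := ∃ v ∈ l, U.e v ∈ U.X

theorem In.all {l : List ℕ} (hl : l ∈ classList) (h : U.In l) {v : ℕ} (hv : v ∈ l) : U.e v ∈ U.X := by
  obtain ⟨u, hu, he⟩ := h
  exact U.class_X hl hu hv he

include U in
theorem d_ne_one : d ≠ 1 := fun h =>
  absurd (U.e_inj (u := 1024) (v := 0) (by norm_num) (by norm_num) (U.e_top.trans (h.trans U.e_zero.symm)))
    (by norm_num)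

theorem zero_notMem : U.e 0 ∉ U.X := fun h => by
  rw [U.e_zero] at h
  obtain ⟨g, hg⟩ := isConj_iff.1 h.2
  rw [mul_inv_eq_one, mul_eq_left] at hg
  exact U.d_ne_one hg

theorem ncard_X [DecidablePred U.In] :
    U.X.ncard = 1 + (classList.map fun l => if U.In l then l.length else 0).sum := by
  classical
  obtain ⟨L, hL⟩ : ∃ L, L = 1024 :: (classList.filter fun l => decide (U.In l)).flatten := ⟨_, rfl⟩
  have hsub : L.Sublist (0 :: 1024 :: classList.flatten) :=
    hL ▸ ((List.Sublist.flatten (List.filter_sublist (p := fun l => decide (U.In l)))).cons_cons 1024).cons 0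
  have hnd : L.Nodup := hsub.nodup all_nodup.1
  have hlt : ∀ v ∈ L, v < 2048 := fun v hv => (all_nodup.2 v).1 (hsub.subset hv)
  have himg : U.X = U.e '' (L.toFinset : Set ℕ) := by
    ext x
    simp only [Set.mem_image, List.coe_toFinset, Set.mem_ofPred_eq]
    constructor
    · intro hx
      obtain ⟨v, hv, rfl⟩ := U.mem_K.1 hx.1
      refine ⟨v, ?_, rfl⟩
      by_cases h1 : v = 1024
      · simp [hL, h1]
      obtain ⟨l, hl, hvl⟩ := exists_class hv (fun h0 => U.zero_notMem (h0 ▸ hx)) h1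
      rw [hL, List.mem_cons, List.mem_flatten]
      exact Or.inr ⟨l, List.mem_filter.2 ⟨hl, by simpa using ⟨v, hvl, hx⟩⟩, hvl⟩
    · rintro ⟨v, hv, rfl⟩
      rw [hL, List.mem_cons, List.mem_flatten] at hv
      rcases hv with rfl | ⟨l, hl, hvl⟩
      · rw [U.e_top]; exact U.d_mem_X
      · rw [List.mem_filter, decide_eq_true_eq] at hl
        exact hl.2.all U hl.1 hvl
  rw [himg, Set.InjOn.ncard_image, Set.ncard_coe_finset, List.toFinset_card_of_nodup hnd, hL, List.length_cons,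
    sum_ite_flatten, add_comm]
  intro a ha b hb hab
  simp only [List.coe_toFinset, Set.mem_ofPred_eq] at ha hb
  exact U.e_inj (hlt a ha) (hlt b hb) hab

theorem equiv_pi : Nonempty (U.K ≃* Multiplicative (Fin 11 → ZMod 2)) := by
  have hx : ∀ u v : ℕ, (fun i : Fin 11 => if (u ^^^ v).testBit i then (1 : ZMod 2) else 0) =
      (fun i : Fin 11 => (if u.testBit i then (1 : ZMod 2) else 0) + if v.testBit i then (1 : ZMod 2) else 0) := by
    intro u v
    funext i
    rw [Nat.testBit_xor]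
    cases u.testBit i <;> cases v.testBit i <;> decide
  choose c hc1 hc2 using fun x : U.K => U.mem_K.1 x.2
  let φ : U.K →* Multiplicative (Fin 11 → ZMod 2) :=
    { toFun := fun x => Multiplicative.ofAdd fun i : Fin 11 => if (c x).testBit i then (1 : ZMod 2) else 0
      map_one' := by
        have h : c 1 = 0 := U.e_inj (hc1 1) (by norm_num) ((hc2 1).trans U.e_zero.symm)
        rw [h]
        simp
        rfl
      map_mul' := fun x y => by
        have h : c (x * y) = c x ^^^ c y := U.e_inj (hc1 _) (Nat.xor_lt_two_pow (n := 11) (hc1 x) (hc1 y))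
          (by rw [hc2, U.e_xor, hc2, hc2]; rfl)
        rw [h, hx]
        rfl }
  have hinj : Function.Injective φ := fun x y h => by
    refine Subtype.ext ((hc2 x).symm.trans (Eq.trans (congrArg U.e ?_) (hc2 y)))
    refine Nat.eq_of_testBit_eq fun i => ?_
    rcases Nat.lt_or_ge i 11 with hi | hi
    · have h' := congrFun (Multiplicative.ofAdd.injective h) ⟨i, hi⟩
      revert h'
      simp only
      cases (c x).testBit i <;> cases (c y).testBit i <;> decide
    · rw [Nat.testBit_lt_two_pow ((hc1 x).trans_le (Nat.pow_le_pow_right (n := 2) two_pos hi)),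
        Nat.testBit_lt_two_pow ((hc1 y).trans_le (Nat.pow_le_pow_right (n := 2) two_pos hi))]
  refine ⟨MulEquiv.ofBijective φ ((Nat.bijective_iff_injective_and_card φ).2 ⟨hinj, ?_⟩)⟩
  rw [U.card_K, Nat.card_congr Multiplicative.toAdd]
  simp

theorem dvd_glOrder : U.X.ncard ∣ glOrder :=
  ncard_dvd_glOrder U.equiv_pi U.X_subset (fun _ hn _ hx => U.X_stable hn hx) U.d_mem_X fun _ hx => U.X_trans hx

/-- One of the two single classes occurs. -/
theorem exists_single (hne : ∃ x ∈ U.X, x ≠ d) : U.In orbPos ∨ U.In orbNeg := by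
  classical
  by_contra h
  rw [not_or] at h
  have hsum := U.ncard_X
  have h1 : U.X.ncard ≠ 1 := fun h1 => by
    obtain ⟨a, ha⟩ := Set.ncard_eq_one.1 h1
    obtain ⟨x, hx, hxd⟩ := hne
    have := U.d_mem_X
    rw [ha, Set.mem_singleton_iff] at hx this
    exact hxd (hx.trans this.symm)
  have hdvd := U.dvd_glOrder
  obtain ⟨-, -, h3, h4, h5⟩ := orbit_lengths
  simp only [classList, List.map_cons, List.map_nil, List.sum_cons, List.sum_nil, if_neg h.1, if_neg h.2, h3, h4,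
    h5] at hsum
  generalize U.X.ncard = N at hsum h1 hdvd
  by_cases a : U.In orbPair <;> by_cases b : U.In orbPairNeg <;> by_cases c : U.In orbRest <;>
    simp [a, b, c] at hsum <;> subst hsum
  all_goals first
    | exact absurd rfl h1
    | exact not_dvd_glOrder _ (by simp) hdvd

theorem act_stab {k : ℕ} (hk : k < 4) : ∃ n ∈ Subgroup.normalizer (U.K : Set G), n * d * n⁻¹ = d ∧
    ∀ v < 2048, n * U.e v * n⁻¹ = U.e (act11 basisIdx coord (stabPerm.getD k []) v) ∧
      act11 basisIdx coord (stabPerm.getD k []) v < 2048 := by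
  have h := List.all_eq_true.1 stab_ok.2.2 k (List.mem_range.2 hk)
  rw [Bool.and_eq_true] at h
  exact U.exists_act h.2

theorem act_mover {k : ℕ} (hk : k < 5) : ∃ n ∈ Subgroup.normalizer (U.K : Set G), n * d * n⁻¹ = d ∧
    ∀ v < 2048, n * U.e v * n⁻¹ = U.e (act11 basisIdx coord (moverPerm.getD k []) v) ∧
      act11 basisIdx coord (moverPerm.getD k []) v < 2048 := by
  have h := List.all_eq_true.1 mover_ok.2.2 k (List.mem_range.2 hk)
  rw [Bool.and_eq_true] at h
  exact U.exists_act h.2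

theorem conj_top_xor {c : G} (hcd : c * d * c⁻¹ = d) {v w : ℕ} (h : c * U.e v * c⁻¹ = U.e w) :
    c * U.e (v ^^^ 1024) * c⁻¹ = U.e (w ^^^ 1024) := by
  rw [U.conj_e_xor, h, U.e_xor, U.e_top, hcd]

/-- The last step: five members with vanishing sum. -/
theorem five_contra {q : ℕ} (hq : q = 1 ∨ q = 1025) (hqX : U.e q ∈ U.X) (hyX : U.e 1027 ∈ U.X)
    (horb : (U.orb (U.e q) (U.e 1027)).ncard = 22) : False := by
  obtain ⟨m, hm, hmd⟩ := U.X_trans hqX
  have hr' : m⁻¹ * U.e 1027 * m ∈ U.X := by simpa using U.X_stable (inv_mem hm) hyX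
  obtain ⟨r, hr, hre⟩ := U.mem_K.1 hr'.1
  have hy : U.e 1027 = m * U.e r * m⁻¹ := by rw [hre]; group
  have hr0 : r ≠ 0 := fun h => U.zero_notMem (by subst h; rw [hre]; exact hr')
  have hr1 : r ≠ 1024 := fun h => by
    subst h
    rw [U.e_top, hmd] at hy
    rcases hq with rfl | rfl <;> exact absurd (U.e_inj (by norm_num) (by norm_num) hy) (by norm_num)
  obtain ⟨l, hl, hrl⟩ := exists_class hr hr0 hr1
  rw [← hmd, hy, U.orb_conj hm, U.orb_class hl hrl] at horb
  obtain ⟨j, hj, f, hf, rfl⟩ := single_of_mem (v := r)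
    (by rcases single_of_length hl horb with rfl | rfl <;> simp [hrl])
  obtain ⟨-, hxor, hdiff⟩ := five_ok
  have hg : ∀ g < 5, ∃ k < 22, act11 basisIdx coord (moverPerm.getD g []) 1027 < 2048 ∧
      U.e (act11 basisIdx coord (moverPerm.getD g []) 1027) = m * U.e (coord.getD k 0 ^^^ f) * m⁻¹ := by
    intro g hg
    obtain ⟨c, hc, hcd, hcv⟩ := U.act_mover hg
    have h1 : c * U.e 1 * c⁻¹ = U.e 1 := by
      have h := List.all_eq_true.1 five_ok.1 (moverPerm.getD g []) (by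
        rw [List.getD_eq_getElem _ _ (mover_ok.2.1.symm ▸ hg)]; exact List.getElem_mem _)
      rw [Nat.beq_eq] at h
      rw [(hcv 1 (by norm_num)).1, h]
    have hcq : c * U.e q * c⁻¹ = U.e q := by
      rcases hq with rfl | rfl
      · exact h1
      · have h' := U.conj_top_xor hcd h1
        rwa [show (1 : ℕ) ^^^ 1024 = 1025 from rfl] at h'
    obtain ⟨k, hk, hk'⟩ := U.conj_single (n := m⁻¹ * c * m) (mul_mem (mul_mem (inv_mem hm) hc) hm) (by
      calc m⁻¹ * c * m * d * (m⁻¹ * c * m)⁻¹ = m⁻¹ * (c * (m * d * m⁻¹) * c⁻¹) * m := by group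
        _ = m⁻¹ * (m * d * m⁻¹) * m := by rw [hmd, hcq]
        _ = d := by group) hj
    refine ⟨k, hk, (hcv 1027 (by norm_num)).2, ?_⟩
    rw [← (hcv 1027 (by norm_num)).1, hy, ← hk' f hf]
    group
  choose k hk hlt he using hg
  have hinj : ∀ a (ha : a < 5) b (hb : b < 5), b < a → k a ha ≠ k b hb := by
    intro a ha b hb hba h
    have h' := List.all_eq_true.1 (List.all_eq_true.1 hdiff a (List.mem_range.2 ha)) b (List.mem_range.2 hba)
    rw [List.all_eq_true] at h'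
    have h'' := h' 0 (by simp)
    rw [Bool.not_eq_true', ← Bool.not_eq_true, Nat.beq_eq] at h''
    apply h''
    have : U.e (act11 basisIdx coord (moverPerm.getD a []) 1027) = U.e (act11 basisIdx coord (moverPerm.getD b []) 1027) := by
      rw [he a ha, he b hb, h]
    rw [U.e_inj (hlt a ha) (hlt b hb) this]
    exact Nat.xor_self _
  rw [foldr_five _ _ mover_ok.2.1] at hxor
  have hprod := congrArg U.e hxor
  simp only [U.e_xor, U.e_zero, he 0 (by norm_num), he 1 (by norm_num), he 2 (by norm_num), he 3 (by norm_num),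
    he 4 (by norm_num)] at hprod
  simp only [show ∀ a b : G, m * a * m⁻¹ * (m * b * m⁻¹) = m * (a * b) * m⁻¹ from fun a b => by group,
    mul_inv_eq_one, mul_eq_left, ← U.e_xor] at hprod
  obtain ⟨a0, ha0⟩ : ∃ x, x = k 0 (by norm_num) := ⟨_, rfl⟩
  obtain ⟨a1, ha1⟩ : ∃ x, x = k 1 (by norm_num) := ⟨_, rfl⟩
  obtain ⟨a2, ha2⟩ : ∃ x, x = k 2 (by norm_num) := ⟨_, rfl⟩
  obtain ⟨a3, ha3⟩ : ∃ x, x = k 3 (by norm_num) := ⟨_, rfl⟩
  obtain ⟨a4, ha4⟩ : ∃ x, x = k 4 (by norm_num) := ⟨_, rfl⟩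
  have b0 : a0 < 22 := ha0 ▸ hk 0 _
  have b1 : a1 < 22 := ha1 ▸ hk 1 _
  have b2 : a2 < 22 := ha2 ▸ hk 2 _
  have b3 : a3 < 22 := ha3 ▸ hk 3 _
  have b4 : a4 < 22 := ha4 ▸ hk 4 _
  rw [← ha0, ← ha1, ← ha2, ← ha3, ← ha4] at hprod
  have hz := U.e_inj (by
    refine Nat.xor_lt_two_pow (n := 11) (Nat.xor_lt_two_pow (Nat.xor_lt_two_pow (Nat.xor_lt_two_pow ?_ ?_) ?_) ?_) ?_
    all_goals exact sign_lt hf (U.coord_lt (by assumption))) (by norm_num) (hprod.trans U.e_zero.symm)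
  refine five_ne (a := a0) (b := a1) (c := a2) (e := a3) (f := a4) ?_ ?_ ?_
  · simp only [List.nodup_cons, List.mem_cons, List.not_mem_nil, or_false, not_or, not_false_eq_true,
      List.nodup_nil, and_true, ha0, ha1, ha2, ha3, ha4]
    exact ⟨⟨(hinj 1 _ 0 _ (by norm_num)).symm, (hinj 2 _ 0 _ (by norm_num)).symm, (hinj 3 _ 0 _ (by norm_num)).symm,
      (hinj 4 _ 0 _ (by norm_num)).symm⟩, ⟨(hinj 2 _ 1 _ (by norm_num)).symm, (hinj 3 _ 1 _ (by norm_num)).symm,
      (hinj 4 _ 1 _ (by norm_num)).symm⟩, ⟨(hinj 3 _ 2 _ (by norm_num)).symm, (hinj 4 _ 2 _ (by norm_num)).symm⟩,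
      (hinj 4 _ 3 _ (by norm_num)).symm⟩
  · simp [b0, b1, b2, b3, b4]
  · have h := congrArg (fun t => t % 2 ^ 10) hz
    simp only [Nat.xor_mod_two_pow] at h
    rw [show (2 : ℕ) ^ 10 = 1024 from rfl] at h
    simp only [coord_low b0, coord_low b1, coord_low b2, coord_low b3, coord_low b4, Nat.zero_mod] at h
    rcases hf with rfl | rfl <;> simpa using h

/-- Neither class of sums of two occurs. -/
theorem not_pair (hne : ∃ x ∈ U.X, x ≠ d) {l : List ℕ} (hl : l = orbPair ∨ l = orbPairNeg) : ¬ U.In l := by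
  intro hIn
  have hlc : l ∈ classList := by rcases hl with rfl | rfl <;> simp [classList]
  obtain ⟨y, hy3, hyl⟩ : ∃ y, (y = 3 ∨ y = 1027) ∧ y ∈ l := by
    rcases hl with rfl | rfl
    exacts [⟨3, Or.inl rfl, rep_mem.1⟩, ⟨1027, Or.inr rfl, rep_mem.2⟩]
  have hyX := hIn.all U hlc hyl
  have hlen : l.length = 231 := by
    rcases hl with rfl | rfl
    exacts [orbit_lengths.2.2.1, orbit_lengths.2.2.2.1]
  obtain ⟨hylt, hy0, hy1⟩ := lt_of_mem hlc hyl
  obtain ⟨n, hn, hnd⟩ := U.X_trans hyX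
  have hwX : n⁻¹ * d * n ∈ U.X := by simpa using U.X_stable (inv_mem hn) U.d_mem_X
  obtain ⟨w, hw, hwe⟩ := U.mem_K.1 hwX.1
  have hdw : n * U.e w * n⁻¹ = d := by rw [hwe]; group
  have hw1 : w ≠ 1024 := fun h => by
    rw [h, U.e_top, hnd] at hdw
    exact hy1 (U.e_inj hylt (by norm_num) (hdw.trans U.e_top.symm))
  obtain ⟨l', hl', hwl'⟩ := exists_class hw (fun h => U.zero_notMem (by subst h; rw [hwe]; exact hwX)) hw1
  have hlen' : l'.length = 231 := by
    rw [← U.orb_class hl' hwl', ← U.orb_conj hn, hnd, hdw, U.orb_symm hyX U.d_mem_X, U.orb_class hlc hyl, hlen]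
  obtain ⟨i, hi, j, hj, hij, s, hs, rfl⟩ := double_of_length hl' hlen' hwl'
  have fix_perm : ∀ m ∈ Subgroup.normalizer (U.K : Set G), m * d * m⁻¹ = d →
      m * U.e (coord.getD i 0 ^^^ coord.getD j 0 ^^^ s) * m⁻¹ = U.e (coord.getD i 0 ^^^ coord.getD j 0 ^^^ s) →
      ∀ k, (k = i ∨ k = j) → ∃ k', (k' = i ∨ k' = j) ∧
        ∀ f, IsSign f → m * U.e (coord.getD k 0 ^^^ f) * m⁻¹ = U.e (coord.getD k' 0 ^^^ f) := by
    intro m hm hmd hmw k hk
    obtain ⟨a, ha, b, hb, hab', hA, hB, h⟩ := U.conj_double hm hmd hi hj hij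
    have hab : coord.getD a 0 ^^^ coord.getD b 0 ^^^ s = coord.getD i 0 ^^^ coord.getD j 0 ^^^ s :=
      U.e_inj (sign_lt hs (Nat.xor_lt_two_pow (n := 11) (U.coord_lt ha) (U.coord_lt hb))) hw
        ((h s hs).symm.trans hmw)
    have hlow := congrArg (fun t => t % 1024) hab
    simp only [double_low ha hb hs, double_low hi hj hs] at hlow
    have hset := pair_unique hi hj hij ha hb hab' hlow.symm
    have hval : ∀ f, IsSign f → m * U.e f * m⁻¹ = U.e f := fun f hf => by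
      rcases hf with rfl | rfl
      · simp [U.e_zero]
      · rw [U.e_top, hmd]
    rcases hk with rfl | rfl
    · refine ⟨a, by rcases hset with h' | h' <;> simp [h'.1], fun f hf => ?_⟩
      rw [U.conj_e_xor, hA, hval f hf, U.e_xor]
    · refine ⟨b, by rcases hset with h' | h' <;> simp [h'.2], fun f hf => ?_⟩
      rw [U.conj_e_xor, hB, hval f hf, U.e_xor]
  -- the four images
  obtain ⟨four, hfour⟩ : ∃ four : List ℕ, four =
      [coord.getD i 0, coord.getD i 0 ^^^ 1024, coord.getD j 0, coord.getD j 0 ^^^ 1024] := ⟨_, rfl⟩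
  have mem_four : ∀ k, (k = i ∨ k = j) → ∀ f, IsSign f → coord.getD k 0 ^^^ f ∈ four := by
    rintro k (rfl | rfl) f (rfl | rfl) <;> simp [hfour]
  have four_form : ∀ u ∈ four, ∃ k, (k = i ∨ k = j) ∧ ∃ f, IsSign f ∧ u = coord.getD k 0 ^^^ f := by
    intro u hu
    simp only [hfour, List.mem_cons, List.not_mem_nil, or_false] at hu
    rcases hu with rfl | rfl | rfl | rfl
    exacts [⟨i, Or.inl rfl, 0, Or.inl rfl, (Nat.xor_zero _).symm⟩, ⟨i, Or.inl rfl, 1024, Or.inr rfl, rfl⟩,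
      ⟨j, Or.inr rfl, 0, Or.inl rfl, (Nat.xor_zero _).symm⟩, ⟨j, Or.inr rfl, 1024, Or.inr rfl, rfl⟩]
  have h3 : y = 3 ∨ y = 3 ^^^ 1024 := hy3
  have stab_step : ∀ k < 4, ∀ q < 2048, ∀ a, (a = i ∨ a = j) → ∀ f, IsSign f →
      U.e q = n * U.e (coord.getD a 0 ^^^ f) * n⁻¹ → ∃ a', (a' = i ∨ a' = j) ∧
        U.e (act11 basisIdx coord (stabPerm.getD k []) q) = n * U.e (coord.getD a' 0 ^^^ f) * n⁻¹ := by
    intro k hk q hq a ha f hf hqe
    obtain ⟨c, hc, hcd, hcv⟩ := U.act_stab hk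
    have hc3 : c * U.e 3 * c⁻¹ = U.e 3 := by
      have h := List.all_eq_true.1 pair_rep.2.2.2.2.1 (stabPerm.getD k []) (by
        rw [List.getD_eq_getElem _ _ (stab_ok.2.1.symm ▸ hk)]; exact List.getElem_mem _)
      rw [Nat.beq_eq] at h
      rw [(hcv 3 (by norm_num)).1, h]
    have hcy : c * U.e y * c⁻¹ = U.e y := by
      rcases h3 with rfl | rfl
      · exact hc3
      · exact U.conj_top_xor hcd hc3
    obtain ⟨a', ha', h'⟩ := fix_perm (n⁻¹ * c * n) (mul_mem (mul_mem (inv_mem hn) hc) hn) (by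
      calc n⁻¹ * c * n * d * (n⁻¹ * c * n)⁻¹ = n⁻¹ * (c * (n * d * n⁻¹) * c⁻¹) * n := by group
        _ = n⁻¹ * (n * d * n⁻¹) * n := by rw [hnd, hcy]
        _ = d := by group) (by
      rw [hwe]
      calc n⁻¹ * c * n * (n⁻¹ * d * n) * (n⁻¹ * c * n)⁻¹ = n⁻¹ * (c * d * c⁻¹) * n := by group
        _ = n⁻¹ * d * n := by rw [hcd]) a ha
    refine ⟨a', ha', ?_⟩
    rw [← (hcv q hq).1, hqe, ← h' f hf]
    group
  have key : ∀ a, (a = i ∨ a = j) → ∀ f, IsSign f → ∀ q < 2048,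
      U.e q = n * U.e (coord.getD a 0 ^^^ f) * n⁻¹ → q = 1 ∨ q = 2 ∨ q = 1025 ∨ q = 1026 := by
    intro a ha f hf q hq hqe
    obtain ⟨P, hP⟩ : ∃ P : ℕ → Prop, P = fun x => x < 2048 ∧ ∃ u ∈ four, U.e x = n * U.e u * n⁻¹ := ⟨_, rfl⟩
    have hstep : ∀ x, P x → ∀ h ∈ stabPerm, P (act11 basisIdx coord h x) := by
      subst hP
      rintro x ⟨hx, u, hu, hxe⟩ h hh
      obtain ⟨k, hk, rfl⟩ := List.mem_iff_getElem.1 hh
      rw [← List.getD_eq_getElem _ [] hk]
      have hk4 : k < 4 := stab_ok.2.1 ▸ hk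
      obtain ⟨b, hb, g, hg, rfl⟩ := four_form u hu
      obtain ⟨b', hb', he'⟩ := stab_step k hk4 x hx b hb g hg hxe
      obtain ⟨c, -, -, hcv⟩ := U.act_stab hk4
      exact ⟨(hcv x hx).2, _, mem_four b' hb' g hg, he'⟩
    obtain ⟨hLn, hLP⟩ := growFive_spec hstep 5 [q] (List.nodup_singleton q) (fun v hv => by
      rw [List.mem_singleton.1 hv, hP]
      exact ⟨hq, _, mem_four a ha f hf, hqe⟩)
    have hgrow := List.all_eq_true.1 grow_ok q (List.mem_range.2 hq)
    rw [Bool.or_eq_true, List.contains_eq_mem, decide_eq_true_eq, Nat.ble_eq] at hgrow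
    have hle : (growFive basisIdx coord stabPerm 5 [q]).length ≤ 4 := by
      rw [hP] at hLP
      have hnd' : ((growFive basisIdx coord stabPerm 5 [q]).map U.e).Nodup :=
        hLn.map_on fun x hx z hz e => U.e_inj (hLP x hx).1 (hLP z hz).1 e
      have hsub : (growFive basisIdx coord stabPerm 5 [q]).map U.e ⊆ four.map fun u => n * U.e u * n⁻¹ := by
        intro x hx
        obtain ⟨v, hv, rfl⟩ := List.mem_map.1 hx
        obtain ⟨-, u, hu, e⟩ := hLP v hv
        exact List.mem_map.2 ⟨u, hu, e.symm⟩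
      simpa [hfour] using (hnd'.subperm hsub).length_le
    have ha22 : a < 22 := by rcases ha with rfl | rfl <;> assumption
    have hu22 : coord.getD a 0 ^^^ f < 2048 := sign_lt hf (U.coord_lt ha22)
    have hlowu := single_low ha22 hf
    have hback : ∀ {t : ℕ}, t < 2048 → U.e q = n * U.e t * n⁻¹ → coord.getD a 0 ^^^ f = t := fun ht he =>
      U.e_inj hu22 ht (mul_left_cancel (mul_right_cancel (hqe.symm.trans he)))
    have hpair : vec.getD i 0 ^^^ vec.getD j 0 ≠ vec.getD a 0 := by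
      rcases Nat.lt_or_gt_of_ne hij with h | h
      · rw [Nat.xor_comm]; exact (pair_sum_ne hj h).1 a ha22
      · exact (pair_sum_ne hi h).1 a ha22
    have hbad : ∀ t, (t = 0 ∨ t = 1024 ∨ t = coord.getD i 0 ^^^ coord.getD j 0 ^^^ s ∨
        t = (coord.getD i 0 ^^^ coord.getD j 0 ^^^ s) ^^^ 1024) → coord.getD a 0 ^^^ f ≠ t := by
      intro t ht e
      rw [e] at hlowu
      rcases ht with rfl | rfl | rfl | rfl
      · exact vec_ne_zero ha22 hlowu.symm
      · exact vec_ne_zero ha22 hlowu.symm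
      · rw [double_low hi hj hs] at hlowu; exact hpair hlowu
      · rw [low_xor_top, double_low hi hj hs] at hlowu; exact hpair hlowu
    have h3' : n * U.e (coord.getD i 0 ^^^ coord.getD j 0 ^^^ s ^^^ 1024) * n⁻¹ = U.e (y ^^^ 1024) := by
      rw [U.conj_e_xor, hdw, U.e_top, hnd, U.e_xor, U.e_top]
      rw [← hnd]
      have := U.isEA.1.1.comm ⟨d, U.d_mem⟩ ⟨_, hyX.1⟩
      rw [hnd]
      exact congrArg Subtype.val this
    rcases hgrow with hgrow | hgrow
    swap
    · omega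
    simp only [List.mem_cons, List.not_mem_nil, or_false] at hgrow
    have c0 : q ≠ 0 := fun h => hbad 0 (Or.inl rfl) (hback (by norm_num) (by rw [h, U.e_zero]; simp))
    have c1 : q ≠ 1024 := fun h => hbad _ (Or.inr (Or.inr (Or.inl rfl))) (hback hw (by rw [h, hdw, U.e_top]))
    have c2 : q ≠ y := fun h => hbad 1024 (Or.inr (Or.inl rfl)) (hback (by norm_num) (by rw [h, U.e_top, hnd]))
    have c3 : q ≠ y ^^^ 1024 := fun h => hbad _ (Or.inr (Or.inr (Or.inr rfl)))
      (hback (Nat.xor_lt_two_pow (n := 11) hw (by norm_num)) (by rw [h, h3']))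
    rcases h3 with rfl | rfl <;> rcases hgrow with rfl | rfl | rfl | rfl | rfl | rfl | rfl | rfl
    all_goals first
      | exact absurd rfl c0
      | exact absurd rfl c1
      | exact absurd rfl c2
      | exact absurd rfl c3
      | simp
  -- the swap
  have swap : ∀ a, (a = i ∨ a = j) → ∀ f, IsSign f → ∀ q < 2048, U.e q = n * U.e (coord.getD a 0 ^^^ f) * n⁻¹ →
      ∃ a', (a' = i ∨ a' = j) ∧ U.e (q ^^^ 3) = n * U.e (coord.getD a' 0 ^^^ f) * n⁻¹ := by
    intro a ha f hf q hq hqe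
    obtain ⟨a', ha', h'⟩ := stab_step 0 (by norm_num) q hq a ha f hf hqe
    refine ⟨a', ha', ?_⟩
    rw [← h']
    obtain ⟨c, -, hcd, hcv⟩ := U.act_stab (k := 0) (by norm_num)
    obtain ⟨-, -, -, -, -, e1, e2⟩ := pair_rep
    have v1 : c * U.e 1 * c⁻¹ = U.e 2 := by rw [(hcv 1 (by norm_num)).1, e1]
    have v2 : c * U.e 2 * c⁻¹ = U.e 1 := by rw [(hcv 2 (by norm_num)).1, e2]
    rw [← (hcv q hq).1]
    rcases key a ha f hf q hq hqe with rfl | rfl | rfl | rfl
    · exact v1.symm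
    · exact v2.symm
    · exact (U.conj_top_xor hcd v1).symm
    · exact (U.conj_top_xor hcd v2).symm
  have image : ∀ u < 2048, ∃ q < 2048, U.e q = n * U.e u * n⁻¹ := fun u hu =>
    U.mem_K.1 (U.conj_mem_K hn (U.e_mem hu))
  rcases h3 with rfl | rfl
  · -- the sum is of the first kind
    obtain ⟨q, hq, hqe⟩ := image (coord.getD i 0) (U.coord_lt hi)
    obtain ⟨a, ha, hae⟩ := swap i (Or.inl rfl) 0 (Or.inl rfl) q hq (by rwa [Nat.xor_zero])
    rw [U.e_xor, hqe, Nat.xor_zero] at hae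
    nth_rewrite 1 [← hnd] at hae
    rw [show n * U.e (coord.getD i 0) * n⁻¹ * (n * d * n⁻¹) = n * (U.e (coord.getD i 0) * d) * n⁻¹ by group,
      mul_left_inj, mul_right_inj,
      ← show U.e (coord.getD i 0 ^^^ 1024) = U.e (coord.getD i 0) * d by rw [U.e_xor, U.e_top]] at hae
    have ha22 : a < 22 := by rcases ha with rfl | rfl <;> assumption
    have h := U.e_inj (sign_lt (Or.inr rfl) (U.coord_lt hi)) (U.coord_lt ha22) hae
    have hlow := congrArg (fun t => t % 1024) h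
    simp only [low_xor_top, coord_low hi, coord_low ha22] at hlow
    rw [← vec_inj hi ha22 hlow] at h
    have h2 := congrArg (fun t => coord.getD i 0 ^^^ t) h
    simp at h2
  · obtain ⟨f, hf, hfX⟩ : ∃ f, IsSign f ∧ U.e (coord.getD i 0 ^^^ f) ∈ U.X := by
      rcases U.exists_single hne with h | h
      · exact ⟨0, Or.inl rfl, h.all U pos_mem.1 (mem_pos.2 ⟨i, hi, Nat.xor_zero _⟩)⟩
      · exact ⟨1024, Or.inr rfl, h.all U pos_mem.2.1 (mem_neg.2 ⟨i, hi, rfl⟩)⟩
    obtain ⟨q, hq, hqe⟩ := image _ (sign_lt hf (U.coord_lt hi))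
    obtain ⟨q', a, ha, hq'1, hq'X, hq'e⟩ : ∃ q' a, (a = i ∨ a = j) ∧ (q' = 1 ∨ q' = 1025) ∧ U.e q' ∈ U.X ∧
        U.e q' = n * U.e (coord.getD a 0 ^^^ f) * n⁻¹ := by
      have hqX : U.e q ∈ U.X := hqe ▸ U.X_stable hn hfX
      obtain ⟨a', ha', hae⟩ := swap i (Or.inl rfl) f hf q hq hqe
      have hq3X : U.e (q ^^^ 3) ∈ U.X := by
        obtain ⟨c, hc, -, hcv⟩ := U.act_stab (k := 0) (by norm_num)
        obtain ⟨-, -, -, -, -, e1, e2⟩ := pair_rep
        rw [hae]
        refine U.X_stable hn ?_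
        rcases ha' with rfl | rfl
        · exact hfX
        · rcases hf with rfl | rfl
          · exact U.class_X pos_mem.1 (mem_pos.2 ⟨i, hi, Nat.xor_zero _⟩) (mem_pos.2 ⟨_, hj, Nat.xor_zero _⟩) hfX
          · exact U.class_X pos_mem.2.1 (mem_neg.2 ⟨i, hi, rfl⟩) (mem_neg.2 ⟨_, hj, rfl⟩) hfX
      rcases key i (Or.inl rfl) f hf q hq hqe with rfl | rfl | rfl | rfl
      · exact ⟨1, i, Or.inl rfl, Or.inl rfl, hqX, hqe⟩
      · exact ⟨1, a', ha', Or.inl rfl, hq3X, hae⟩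
      · exact ⟨1025, i, Or.inl rfl, Or.inr rfl, hqX, hqe⟩
      · exact ⟨1025, a', ha', Or.inr rfl, hq3X, hae⟩
    refine U.five_contra hq'1 hq'X hyX ?_
    have ha22 : a < 22 := by rcases ha with rfl | rfl <;> assumption
    have horb : (U.orb (n * d * n⁻¹) (n * U.e (coord.getD a 0 ^^^ f) * n⁻¹)).ncard = 22 := by
      rw [U.orb_conj hn]
      rcases single_mem ha22 hf with h | h
      · rw [U.orb_class pos_mem.1 h, orbit_lengths.1]
      · rw [U.orb_class pos_mem.2.1 h, orbit_lengths.2.1]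
    rw [hnd, ← hq'e] at horb
    rw [show (1027 : ℕ) = 3 ^^^ 1024 from rfl, U.orb_symm hq'X hyX]
    exact horb

/-- Not both single classes occur. -/
theorem not_both (hne : ∃ x ∈ U.X, x ≠ d) (hR : ¬ U.In orbRest) : ¬ (U.In orbPos ∧ U.In orbNeg) := by
  rintro ⟨hP, hN⟩
  obtain ⟨e1, e2, -⟩ := pair_rep
  have h1 : (1 : ℕ) ∈ orbPos := mem_pos.2 ⟨0, by norm_num, e1.symm⟩
  have h2 : (2 : ℕ) ∈ orbPos := mem_pos.2 ⟨1, by norm_num, e2.symm⟩
  obtain ⟨n, hn, hnd⟩ := U.X_trans (hP.all U pos_mem.1 h1)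
  have hx : n⁻¹ * U.e 2 * n ∈ U.X := by simpa using U.X_stable (inv_mem hn) (hP.all U pos_mem.1 h2)
  obtain ⟨r, hr, hre⟩ := U.mem_K.1 hx.1
  have hn2 : n * U.e r * n⁻¹ = U.e 2 := by rw [hre]; group
  have hr1 : r ≠ 1024 := fun h => by
    rw [h, U.e_top, hnd] at hn2
    exact absurd (U.e_inj (by norm_num) (by norm_num) hn2) (by norm_num)
  have hrX : U.e r ∈ U.X := by rw [hre]; exact hx
  obtain ⟨l, hl, hrl⟩ := exists_class hr (fun h => U.zero_notMem (h ▸ hrX)) hr1
  have hlIn : U.In l := ⟨r, hrl, hrX⟩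
  simp only [classList, List.mem_cons, List.not_mem_nil, or_false] at hl
  have hs : r ∈ orbPos ∨ r ∈ orbNeg := by
    rcases hl with rfl | rfl | rfl | rfl | rfl
    exacts [Or.inl hrl, Or.inr hrl, absurd hlIn (U.not_pair hne (Or.inl rfl)),
      absurd hlIn (U.not_pair hne (Or.inr rfl)), absurd hlIn hR]
  obtain ⟨j, hj, f, hf, rfl⟩ := single_of_mem hs
  have htX : U.e (coord.getD j 0 ^^^ f ^^^ 1024) ∈ U.X := by
    rw [Nat.xor_assoc]
    rcases single_mem hj (f := f ^^^ 1024) (by rcases hf with rfl | rfl <;> simp [IsSign]) with h | h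
    exacts [hP.all U pos_mem.1 h, hN.all U pos_mem.2.1 h]
  have h3 := U.X_stable hn htX
  rw [U.conj_e_xor, hn2, U.e_top, hnd, ← U.e_xor] at h3
  exact U.not_pair hne (Or.inl rfl) ⟨2 ^^^ 1, (show (2 : ℕ) ^^^ 1 = 3 by decide) ▸ rep_mem.1, h3⟩

/-- There are twenty-three conjugates. -/
theorem ncard_eq (hne : ∃ x ∈ U.X, x ≠ d) : U.X.ncard = 23 := by
  classical
  have hsum := U.ncard_X
  have hdvd := U.dvd_glOrder
  obtain ⟨h1, h2, -, -, h5⟩ := orbit_lengths
  simp only [classList, List.map_cons, List.map_nil, List.sum_cons, List.sum_nil, h1, h2, h5,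
    if_neg (U.not_pair hne (Or.inl rfl)), if_neg (U.not_pair hne (Or.inr rfl))] at hsum
  have hor := U.exists_single hne
  have hR : ¬ U.In orbRest := fun hR => by
    generalize U.X.ncard = N at hsum hdvd
    by_cases a : U.In orbPos <;> by_cases b : U.In orbNeg <;> simp [a, b, hR] at hsum hor <;> subst hsum <;>
      exact not_dvd_glOrder _ (by simp) hdvd
  rw [hsum, if_neg hR]
  by_cases a : U.In orbPos
  · rw [if_pos a, if_neg fun b => U.not_both hne hR ⟨a, b⟩]
    rfl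
  · rw [if_neg a, if_pos (hor.resolve_left a)]
    rfl

end Setup

end Cfsg.Lib.CosetEnum.Fi22Two
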