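import Mathlib
import Cfsg.Prelude.Def_Transfer

/-!
# The order of the automorphism group of an elementary abelian group of order two to the eleven
-/

set_option autoImplicit false

namespace Cfsg.Lib.CosetEnum.Fi22Two

/-- The number of invertible matrices of degree eleven over two elements. -/
def glOrder : ℕ := ((List.range 11).map fun i => 2 ^ 11 - 2 ^ i).prod

theorem card_mulAut_pi : Nat.card (MulAut (Multiplicative (Fin 11 → ZMod 2))) = glOrder := by
  have : Fact (Nat.Prime 2) := ⟨Nat.prime_two⟩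
  let e₁ : AddAut (Fin 11 → ZMod 2) ≃ ((Fin 11 → ZMod 2) ≃ₗ[ZMod 2] (Fin 11 → ZMod 2)) :=
    { toFun := fun f => { f with map_smul' := fun c x => ZMod.map_smul f c x }
      invFun := fun f => f.toAddEquiv
      left_inv := fun f => rfl
      right_inv := fun f => rfl }
  rw [Nat.card_congr (MulAutMultiplicative (G := Fin 11 → ZMod 2)).toEquiv,
    Nat.card_congr Multiplicative.toAdd, Nat.card_congr e₁,
    ← Nat.card_congr (LinearMap.GeneralLinearGroup.generalLinearEquiv (ZMod 2) (Fin 11 → ZMod 2)).toEquiv,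
    ← Nat.card_congr (Matrix.GeneralLinearGroup.toLin (n := Fin 11) (R := ZMod 2)).toEquiv,
    Matrix.card_GL_field, ZMod.card]
  simp [glOrder, Fin.prod_univ_succ, List.range_succ]

/-- A transitive set of a group of automorphisms has order dividing the number of matrices. -/
theorem ncard_dvd_glOrder {G : Type*} [Group G] [Finite G] {K : Subgroup G}
    (hK : Nonempty (K ≃* Multiplicative (Fin 11 → ZMod 2))) {X : Set G} (hX : X ⊆ K)
    (hst : ∀ n ∈ Subgroup.normalizer (K : Set G), ∀ x ∈ X, n * x * n⁻¹ ∈ X) {x₀ : G} (hx₀ : x₀ ∈ X)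
    (htr : ∀ x ∈ X, ∃ n ∈ Subgroup.normalizer (K : Set G), n * x₀ * n⁻¹ = x) : X.ncard ∣ glOrder := by
  obtain ⟨e⟩ := hK
  let ρ : Subgroup.normalizer (K : Set G) →* MulAut K :=
    { toFun := fun n =>
        { toFun := fun k => ⟨n * k * (n : G)⁻¹, (Subgroup.mem_normalizer_iff.1 n.2 k).1 k.2⟩
          invFun := fun k => ⟨(n : G)⁻¹ * k * n, (Subgroup.mem_normalizer_iff.1 n.2 _).2 (by
            simp [mul_assoc, k.2])⟩
          left_inv := fun k => Subtype.ext (by simp [mul_assoc])
          right_inv := fun k => Subtype.ext (by simp [mul_assoc])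
          map_mul' := fun a b => Subtype.ext (by simp [mul_assoc]) }
      map_one' := MulEquiv.ext fun k => Subtype.ext (by simp)
      map_mul' := fun a b => MulEquiv.ext fun k => Subtype.ext (by simp [mul_assoc]) }
  obtain ⟨k₀, hk₀⟩ : ∃ k₀ : K, (k₀ : G) = x₀ := ⟨⟨x₀, hX hx₀⟩, rfl⟩
  let Y : Set K := {k | (k : G) ∈ X}
  have hY : Y = MulAction.orbit ρ.range k₀ := by
    ext k
    constructor
    · intro hk
      obtain ⟨n, hn, e⟩ := htr _ hk
      exact ⟨⟨ρ ⟨n, hn⟩, ⟨_, rfl⟩⟩, Subtype.ext (show n * k₀ * n⁻¹ = k by rw [hk₀, e])⟩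
    · rintro ⟨⟨_, n, rfl⟩, rfl⟩
      exact hst n n.2 _ (hk₀ ▸ hx₀)
  have hcard : X.ncard = Nat.card (MulAction.orbit ρ.range k₀) := by
    rw [← hY, Nat.card_coe_set_eq]
    exact (Set.ncard_congr (s := Y) (t := X) (fun k _ => ((k : K) : G)) (fun k hk => hk)
      (fun a b _ _ h => Subtype.ext h) fun x hx => ⟨(⟨x, hX hx⟩ : K), hx, rfl⟩).symm
  rw [hcard, Nat.card_congr (MulAction.orbitEquivQuotientStabilizer ρ.range k₀)]
  refine (Subgroup.card_quotient_dvd_card _).trans ((Subgroup.card_subgroup_dvd_card _).trans ?_)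
  let c : MulAut K ≃* MulAut (Multiplicative (Fin 11 → ZMod 2)) := MulAut.congr e
  rw [Nat.card_congr c.toEquiv, card_mulAut_pi]

end Cfsg.Lib.CosetEnum.Fi22Two
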