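import Cfsg.Agent.Lib.CosetEnum.Fi22Two.Classes
import Cfsg.Agent.Lib.CosetEnum.Fi22Two.CoverLifts
import Cfsg.Agent.Lib.CosetEnum.Fi22Two.OrderBound
import Cfsg.Agent.Lib.Fischer.Relations.Centralizer.Order

/-!
# The normalizer of the group of order two to the eleven in a centralizer of type 2.M(22)
-/

set_option autoImplicit false
set_option linter.unusedSectionVars false
set_option maxRecDepth 30000

namespace Cfsg.Lib.CosetEnum.Fi22Two

open Fi22Norm (Fi22Tab)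
open Fi22U62 (tabP)

variable {G : Type*} [Group G] [Finite G] {d : G} {Q : Type*} [Group Q] [Finite Q] {E : Set Q}

/-- A centralizer that is a double cover of a group with the table, and coordinates in it. -/
structure Setup (d : G) (Q : Type*) [Group Q] [Finite Q] (E : Set Q) where
  π : ↥(Subgroup.centralizer ({d} : Set G)) →* Q
  z : ↥(Subgroup.centralizer ({d} : Set G))
  hd : IsDouble π z
  z_val : (z : G) = d
  T : Fi22Tab Q E
  L : T.A.Lifts π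
  coord_ok : IsCoord z T L coord
  max_conj : ∀ B : Subgroup ↥(Subgroup.centralizer ({d} : Set G)), Cfsg.IsElementaryAbelian 2 B →
    2048 ≤ Nat.card B → ∃ c, ((base T).comap π).map (MulAut.conj c).toMonoidHom = B

namespace Setup

variable (U : Setup d Q E)

/-- The group of order two to the eleven. -/
noncomputable def K : Subgroup G := ((base U.T).comap U.π).map (Subgroup.centralizer ({d} : Set G)).subtype

/-- The element with given coordinates. -/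
noncomputable def e (v : ℕ) : G := (ev11 U.z U.T U.L v : ↥(Subgroup.centralizer ({d} : Set G)))

/-- The conjugates of `d` in the group. -/
def X : Set G := {x | x ∈ U.K ∧ IsConj d x}

theorem e_xor (u v : ℕ) : U.e (u ^^^ v) = U.e u * U.e v := by
  rw [e, ev11_xor U.T U.L U.hd]; rfl

theorem e_top : U.e 1024 = d := by rw [e, ev11_top U.T U.L U.hd, U.z_val]

theorem e_zero : U.e 0 = 1 := by rw [e, ev11_zero U.T U.L U.hd]; rfl

theorem e_inj {u v : ℕ} (hu : u < 2048) (hv : v < 2048) (h : U.e u = U.e v) : u = v :=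
  ev11_inj U.T U.L U.hd hu hv (Subtype.ext h)

theorem mem_K {x : G} : x ∈ U.K ↔ ∃ v < 2048, U.e v = x := by
  constructor
  · rintro ⟨c, hc, rfl⟩
    obtain ⟨v, hv, rfl⟩ := (mem_coverBase U.T U.L U.hd).1 hc
    exact ⟨v, hv, rfl⟩
  · rintro ⟨v, hv, rfl⟩
    exact ⟨_, (mem_coverBase U.T U.L U.hd).2 ⟨v, hv, rfl⟩, rfl⟩

theorem e_mem {v : ℕ} (hv : v < 2048) : U.e v ∈ U.K := U.mem_K.2 ⟨v, hv, rfl⟩

theorem d_mem : d ∈ U.K := by
  have h := U.e_mem (v := 1024) (by norm_num)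
  rwa [U.e_top] at h

theorem isEA : Cfsg.IsElementaryAbelian 2 U.K :=
  Lib.Thompson.isEA_map _ (coverBase_elementary U.T U.L U.hd)

theorem card_K : Nat.card U.K = 2 ^ 11 := by
  rw [K, Subgroup.card_map_of_injective Subtype.val_injective, U.hd.card_comap, card_base]; norm_num

theorem e_coord {j : ℕ} (hj : j < 22) :
    U.e (coord.getD j 0) = (genL U.T U.L j : ↥(Subgroup.centralizer ({d} : Set G))) := by
  rw [e, ← (U.coord_ok.2 j hj).2]

include U in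
theorem coord_lt {j : ℕ} (hj : j < 22) : coord.getD j 0 < 2048 := (U.coord_ok.2 j hj).1

theorem mem_centralizer_iff {n : G} : n * d * n⁻¹ = d ↔ n ∈ Subgroup.centralizer ({d} : Set G) := by
  rw [Subgroup.mem_centralizer_singleton_iff, mul_inv_eq_iff_eq_mul]

theorem conj_mem_K {n x : G} (hn : n ∈ Subgroup.normalizer (U.K : Set G)) (hx : x ∈ U.K) : n * x * n⁻¹ ∈ U.K :=
  (Subgroup.mem_normalizer_iff.1 hn x).1 hx

/-- An element of the normalizer fixing `d` permutes the twenty-two. -/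
theorem exists_perm_coord {n : G} (hn : n ∈ Subgroup.normalizer (U.K : Set G)) (hnd : n * d * n⁻¹ = d) {j : ℕ}
    (hj : j < 22) : ∃ i < 22, n * U.e (coord.getD j 0) * n⁻¹ = U.e (coord.getD i 0) := by
  obtain ⟨c, hc⟩ : ∃ c : ↥(Subgroup.centralizer ({d} : Set G)), (c : G) = n :=
    ⟨⟨n, mem_centralizer_iff.1 hnd⟩, rfl⟩
  have hmem := U.conj_mem_K hn (U.e_mem (U.coord_lt hj))
  have heq : n * U.e (coord.getD j 0) * n⁻¹ =
      (U.L.Y (U.T.A.f (U.π c) (P j hj)) : ↥(Subgroup.centralizer ({d} : Set G))) := by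
    rw [U.e_coord hj, genL_eq U.T U.L hj, ← equivariant U.T U.L U.hd, ← hc]
    rfl
  rw [heq] at hmem
  obtain ⟨b, hb, hbe⟩ := hmem
  have hbe' : b = U.L.Y (U.T.A.f (U.π c) (P j hj)) := Subtype.ext hbe
  have hq : U.T.A.delta (U.T.A.f (U.π c) (P j hj)) ∈ base U.T := by
    rw [← U.L.proj, ← hbe']
    exact hb
  obtain ⟨i, hi, hqi⟩ := delta_mem_base U.T hq
  refine ⟨i, hi, ?_⟩
  rw [heq, hqi, U.e_coord hi, genL_eq U.T U.L hi]

theorem conj_e_xor (n : G) (u v : ℕ) :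
    n * U.e (u ^^^ v) * n⁻¹ = n * U.e u * n⁻¹ * (n * U.e v * n⁻¹) := by
  rw [U.e_xor]; group

/-- An element fixing `d` moves a sum of members to a sum of members. -/
theorem conj_single {n : G} (hn : n ∈ Subgroup.normalizer (U.K : Set G)) (hnd : n * d * n⁻¹ = d) {j : ℕ}
    (hj : j < 22) : ∃ i < 22, ∀ f, (f = 0 ∨ f = 1024) →
      n * U.e (coord.getD j 0 ^^^ f) * n⁻¹ = U.e (coord.getD i 0 ^^^ f) := by
  obtain ⟨i, hi, h⟩ := U.exists_perm_coord hn hnd hj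
  refine ⟨i, hi, fun f hf => ?_⟩
  rw [U.conj_e_xor, h, U.e_xor]
  rcases hf with rfl | rfl
  · simp [U.e_zero]
  · rw [U.e_top, hnd]

theorem conj_double {n : G} (hn : n ∈ Subgroup.normalizer (U.K : Set G)) (hnd : n * d * n⁻¹ = d) {i j : ℕ}
    (hi : i < 22) (hj : j < 22) (hij : i ≠ j) : ∃ a < 22, ∃ b < 22, a ≠ b ∧
      n * U.e (coord.getD i 0) * n⁻¹ = U.e (coord.getD a 0) ∧
      n * U.e (coord.getD j 0) * n⁻¹ = U.e (coord.getD b 0) ∧ ∀ f, (f = 0 ∨ f = 1024) →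
      n * U.e (coord.getD i 0 ^^^ coord.getD j 0 ^^^ f) * n⁻¹ = U.e (coord.getD a 0 ^^^ coord.getD b 0 ^^^ f) := by
  obtain ⟨a, ha, hA⟩ := U.exists_perm_coord hn hnd hi
  obtain ⟨b, hb, hB⟩ := U.exists_perm_coord hn hnd hj
  refine ⟨a, ha, b, hb, fun hab => ?_, hA, hB, fun f hf => ?_⟩
  · subst hab
    have := U.e_inj (U.coord_lt hi) (U.coord_lt hj) (mul_left_cancel (mul_right_cancel (hA.trans hB.symm)))
    exact hij (vec_inj hi hj (by rw [← coord_low hi, ← coord_low hj, this]))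
  · rw [U.conj_e_xor, U.conj_e_xor, hA, hB, U.e_xor, U.e_xor]
    rcases hf with rfl | rfl
    · simp [U.e_zero]
    · rw [U.e_top, hnd]

theorem exists_pair_lt {i j : ℕ} (hi : i < 22) (hj : j < 22) (hij : i ≠ j) :
    ∃ a < 22, ∃ b < a, coord.getD i 0 ^^^ coord.getD j 0 = coord.getD a 0 ^^^ coord.getD b 0 := by
  rcases Nat.lt_or_gt_of_ne hij with h | h
  · exact ⟨j, hj, i, h, Nat.xor_comm _ _⟩
  · exact ⟨i, hi, j, h, rfl⟩

/-- The five classes are stable. -/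
theorem stable {n : G} (hn : n ∈ Subgroup.normalizer (U.K : Set G)) (hnd : n * d * n⁻¹ = d) {l : List ℕ}
    (hl : l ∈ classList) {v : ℕ} (hv : v ∈ l) : ∃ w ∈ l, n * U.e v * n⁻¹ = U.e w := by
  obtain ⟨p1, p2, p3, p4, p5⟩ := pos_mem
  have known : ∀ m, m ∈ Subgroup.normalizer (U.K : Set G) → m * d * m⁻¹ = d → ∀ l ∈ classList, l ≠ orbRest →
      ∀ v ∈ l, ∃ w ∈ l, m * U.e v * m⁻¹ = U.e w := by
    intro m hm hmd l hl hne v hv
    simp only [classList, List.mem_cons, List.not_mem_nil, or_false] at hl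
    rcases hl with rfl | rfl | rfl | rfl | rfl
    · obtain ⟨j, hj, rfl⟩ := mem_pos.1 hv
      obtain ⟨i, hi, h⟩ := U.conj_single hm hmd hj
      exact ⟨_, mem_pos.2 ⟨i, hi, rfl⟩, by simpa using h 0 (Or.inl rfl)⟩
    · obtain ⟨j, hj, rfl⟩ := mem_neg.1 hv
      obtain ⟨i, hi, h⟩ := U.conj_single hm hmd hj
      exact ⟨_, mem_neg.2 ⟨i, hi, rfl⟩, h 1024 (Or.inr rfl)⟩
    · obtain ⟨i, hi, j, hj, rfl⟩ := mem_pair.1 hv
      obtain ⟨a, ha, b, hb, hab, -, -, h⟩ := U.conj_double hm hmd hi (show j < 22 by omega) (by omega)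
      obtain ⟨a', ha', b', hb', e'⟩ := exists_pair_lt ha hb hab
      exact ⟨_, mem_pair.2 ⟨a', ha', b', hb', rfl⟩, by rw [← e']; simpa using h 0 (Or.inl rfl)⟩
    · obtain ⟨i, hi, j, hj, rfl⟩ := mem_pairNeg.1 hv
      obtain ⟨a, ha, b, hb, hab, -, -, h⟩ := U.conj_double hm hmd hi (show j < 22 by omega) (by omega)
      obtain ⟨a', ha', b', hb', e'⟩ := exists_pair_lt ha hb hab
      exact ⟨_, mem_pairNeg.2 ⟨a', ha', b', hb', rfl⟩, by rw [← e']; exact h 1024 (Or.inr rfl)⟩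
    · exact absurd rfl hne
  by_cases hne : l = orbRest
  swap
  · exact known n hn hnd l hl hne v hv
  obtain ⟨hlt, h0, h1⟩ := lt_of_mem hl hv
  obtain ⟨w, hw, hwe⟩ := U.mem_K.1 (U.conj_mem_K hn (U.e_mem hlt))
  have hw0 : w ≠ 0 := by
    rintro rfl
    rw [U.e_zero, eq_comm, mul_inv_eq_one, mul_eq_left] at hwe
    exact h0 (U.e_inj hlt (by norm_num) (hwe.trans U.e_zero.symm))
  have hw1 : w ≠ 1024 := by
    rintro rfl
    rw [U.e_top] at hwe
    exact h1 (U.e_inj hlt (by norm_num) (U.e_top.symm ▸ mul_left_cancel (mul_right_cancel (hwe.symm.trans hnd.symm))))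
  obtain ⟨l', hl', hwl'⟩ := exists_class hw hw0 hw1
  by_cases hl'e : l' = orbRest
  · exact ⟨w, hne ▸ hl'e ▸ hwl', hwe.symm⟩
  · have hninv : n⁻¹ * d * n⁻¹⁻¹ = d := by
      calc n⁻¹ * d * n⁻¹⁻¹ = n⁻¹ * (n * d * n⁻¹) * n := by rw [hnd]; group
        _ = d := by group
    obtain ⟨u, hu, hue⟩ := known n⁻¹ (inv_mem hn) hninv l' hl' hl'e w hwl'
    rw [hwe, show n⁻¹ * (n * U.e v * n⁻¹) * n⁻¹⁻¹ = U.e v by group] at hue
    have : v = u := U.e_inj hlt (lt_of_mem hl' hu).1 hue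
    exact absurd (class_unique hl hl' hv (this ▸ hu)) (fun h => hl'e (h.symm.trans hne))

/-- An element with given action on the coordinates. -/
theorem exists_act {w h : List ℕ} (hw : permOK tabP 9 clique w h = true) :
    ∃ n ∈ Subgroup.normalizer (U.K : Set G), n * d * n⁻¹ = d ∧
      ∀ v < 2048, n * U.e v * n⁻¹ = U.e (act11 basisIdx coord h v) ∧ act11 basisIdx coord h v < 2048 := by
  have hp := permBy_of_check U.T hw
  obtain ⟨c, hc⟩ := exists_lift_word U.T U.hd w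
  rw [← hc] at hp
  have hconj : ∀ v, (c : G) * U.e v * (c : G)⁻¹ = U.e (act11 basisIdx coord h v) ∧
      act11 basisIdx coord h v < 2048 := fun v => by
    obtain ⟨h1, h2⟩ := conj_ev11 U.T U.L U.hd U.coord_ok hp v
    exact ⟨congrArg Subtype.val h1, h2⟩
  refine ⟨c, ?_, mem_centralizer_iff.2 c.2, fun v _ => hconj v⟩
  refine Subgroup.mem_normalizer_fintype (fun x hx => ?_)
  obtain ⟨v, -, rfl⟩ := U.mem_K.1 hx
  exact U.mem_K.2 ⟨_, (hconj v).2, (hconj v).1.symm⟩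

/-- The orbit of `y` under the normalizer elements fixing `x`. -/
def orb (x y : G) : Set G :=
  {w | ∃ n ∈ Subgroup.normalizer (U.K : Set G), n * x * n⁻¹ = x ∧ n * y * n⁻¹ = w}

theorem class_trans {l : List ℕ} (hl : l ∈ classList) {u v : ℕ} (hu : u ∈ l) (hv : v ∈ l) :
    ∃ n ∈ Subgroup.normalizer (U.K : Set G), n * d * n⁻¹ = d ∧ n * U.e u * n⁻¹ = U.e v := by
  obtain ⟨o1, o2, o3, o4, o5⟩ := orbits_ok
  obtain ⟨steps, hsteps⟩ : ∃ t, stepsOK basisIdx coord normPerm l t 1 = true := by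
    simp only [classList, List.mem_cons, List.not_mem_nil, or_false] at hl
    rcases hl with rfl | rfl | rfl | rfl | rfl
    exacts [⟨_, o1⟩, ⟨_, o2⟩, ⟨_, o3⟩, ⟨_, o4⟩, ⟨_, o5⟩]
  have hhead : l.getD 0 0 < 2048 := by
    have : 0 < l.length := List.length_pos_of_mem hu
    rw [List.getD_eq_getElem _ _ this]
    exact (lt_of_mem hl (List.getElem_mem this)).1
  obtain ⟨P, hP⟩ : ∃ P : ℕ → Prop, P = fun w => w < 2048 ∧ ∃ n ∈ Subgroup.normalizer (U.K : Set G),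
      n * d * n⁻¹ = d ∧ n * U.e (l.getD 0 0) * n⁻¹ = U.e w := ⟨_, rfl⟩
  have hstep : ∀ w, P w → ∀ h ∈ normPerm, P (act11 basisIdx coord h w) := by
    subst hP
    rintro w ⟨hw, n, hn, hnd, hne⟩ h hh
    obtain ⟨i, hi, rfl⟩ := List.mem_iff_getElem.1 hh
    have hc := List.all_eq_true.1 normGens_ok.1 i (List.mem_range.2 (normGens_ok.2.2 ▸ hi))
    rw [List.getD_eq_getElem _ _ hi] at hc
    obtain ⟨m, hm, hmd, hmv⟩ := U.exists_act hc
    refine ⟨(hmv w hw).2, m * n, mul_mem hm hn, ?_, ?_⟩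
    · rw [show m * n * d * (m * n)⁻¹ = m * (n * d * n⁻¹) * m⁻¹ by group, hnd, hmd]
    · rw [show m * n * U.e (l.getD 0 0) * (m * n)⁻¹ = m * (n * U.e (l.getD 0 0) * n⁻¹) * m⁻¹ by group, hne,
        (hmv w hw).1]
  have hall := stepsOK_induction hstep steps 1 hsteps (fun k hk => by
    obtain rfl : k = 0 := by omega
    rw [hP]
    exact ⟨hhead, 1, one_mem _, by simp, by simp⟩)
  obtain ⟨a, ha, rfl⟩ := List.mem_iff_getElem.1 hu
  obtain ⟨b, hb, rfl⟩ := List.mem_iff_getElem.1 hv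
  rw [hP] at hall
  obtain ⟨-, n₁, h₁, h₁d, h₁e⟩ := hall a ha
  obtain ⟨-, n₂, h₂, h₂d, h₂e⟩ := hall b hb
  rw [List.getD_eq_getElem _ _ ha] at h₁e
  rw [List.getD_eq_getElem _ _ hb] at h₂e
  refine ⟨n₂ * n₁⁻¹, mul_mem h₂ (inv_mem h₁), ?_, ?_⟩
  · rw [show n₂ * n₁⁻¹ * d * (n₂ * n₁⁻¹)⁻¹ = n₂ * (n₁⁻¹ * d * n₁) * n₂⁻¹ by group,
      show n₁⁻¹ * d * n₁ = d from
        (show n₁⁻¹ * d * n₁ = n₁⁻¹ * (n₁ * d * n₁⁻¹) * n₁ by rw [h₁d]).trans (by group), h₂d]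
  · rw [← h₁e, show n₂ * n₁⁻¹ * (n₁ * U.e (l.getD 0 0) * n₁⁻¹) * (n₂ * n₁⁻¹)⁻¹ =
      n₂ * U.e (l.getD 0 0) * n₂⁻¹ by group, h₂e]

theorem orb_class {l : List ℕ} (hl : l ∈ classList) {v : ℕ} (hv : v ∈ l) :
    (U.orb d (U.e v)).ncard = l.length := by
  classical
  have himg : U.orb d (U.e v) = U.e '' (l.toFinset : Set ℕ) := by
    ext x
    simp only [Set.mem_image, List.coe_toFinset, Set.mem_setOf_eq]
    constructor
    · rintro ⟨n, hn, hnd, rfl⟩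
      obtain ⟨w, hw, hwe⟩ := U.stable hn hnd hl hv
      exact ⟨w, hw, hwe.symm⟩
    · rintro ⟨w, hw, rfl⟩
      exact U.class_trans hl hv hw
  rw [himg, Set.InjOn.ncard_image, Set.ncard_coe_finset, List.toFinset_card_of_nodup (class_nodup hl)]
  intro a ha b hb hab
  simp only [List.coe_toFinset, Set.mem_setOf_eq] at ha hb
  exact U.e_inj (lt_of_mem hl ha).1 (lt_of_mem hl hb).1 hab

theorem orb_conj {m : G} (hm : m ∈ Subgroup.normalizer (U.K : Set G)) (x y : G) :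
    (U.orb (m * x * m⁻¹) (m * y * m⁻¹)).ncard = (U.orb x y).ncard := by
  have himg : U.orb (m * x * m⁻¹) (m * y * m⁻¹) = MulAut.conj m '' U.orb x y := by
    ext w
    constructor
    · rintro ⟨n, hn, hnx, rfl⟩
      refine ⟨m⁻¹ * n * m * y * (m⁻¹ * n * m)⁻¹, ⟨_, mul_mem (mul_mem (inv_mem hm) hn) hm, ?_, rfl⟩, ?_⟩
      · calc m⁻¹ * n * m * x * (m⁻¹ * n * m)⁻¹ = m⁻¹ * (n * (m * x * m⁻¹) * n⁻¹) * m := by group
          _ = x := by rw [hnx]; group
      · simp only [MulAut.conj_apply]; group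
    · rintro ⟨_, ⟨n, hn, hnx, rfl⟩, rfl⟩
      refine ⟨m * n * m⁻¹, mul_mem (mul_mem hm hn) (inv_mem hm), ?_, ?_⟩
      · calc m * n * m⁻¹ * (m * x * m⁻¹) * (m * n * m⁻¹)⁻¹ = m * (n * x * n⁻¹) * m⁻¹ := by group
          _ = _ := by rw [hnx]
      · simp only [MulAut.conj_apply]; group
  rw [himg, Set.ncard_image_of_injective _ (MulAut.conj m).injective]

theorem X_subset : U.X ⊆ U.K := fun _ hx => hx.1

theorem X_stable {n x : G} (hn : n ∈ Subgroup.normalizer (U.K : Set G)) (hx : x ∈ U.X) : n * x * n⁻¹ ∈ U.X :=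
  ⟨U.conj_mem_K hn hx.1, hx.2.trans (isConj_iff.2 ⟨n, rfl⟩)⟩

theorem d_mem_X : d ∈ U.X := ⟨U.d_mem, IsConj.refl d⟩

theorem X_trans {x : G} (hx : x ∈ U.X) : ∃ n ∈ Subgroup.normalizer (U.K : Set G), n * d * n⁻¹ = x := by
  obtain ⟨g, rfl⟩ := isConj_iff.1 hx.2
  obtain ⟨B, hB⟩ : ∃ B : Subgroup G, B = U.K.map (MulAut.conj g⁻¹).toMonoidHom := ⟨_, rfl⟩
  have hle : B ≤ Subgroup.centralizer ({d} : Set G) := by
    rintro _ hb
    rw [hB] at hb
    obtain ⟨k, hk, rfl⟩ := hb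
    obtain ⟨u, -, rfl⟩ := U.mem_K.1 hk
    obtain ⟨v, -, hv⟩ := U.mem_K.1 hx.1
    rw [← mem_centralizer_iff]
    have hcomm : U.e u * (g * d * g⁻¹) = g * d * g⁻¹ * U.e u := by
      rw [← hv, ← U.e_xor, ← U.e_xor, Nat.xor_comm]
    simp only [MulEquiv.coe_toMonoidHom, MulAut.conj_apply, inv_inv]
    calc g⁻¹ * U.e u * g * d * (g⁻¹ * U.e u * g)⁻¹
        = g⁻¹ * (U.e u * (g * d * g⁻¹)) * (U.e u)⁻¹ * g := by group
      _ = d := by rw [hcomm]; group
  obtain ⟨c, hc⟩ := U.max_conj (B.subgroupOf _)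
    (Lib.Thompson.isEA_subgroupOf (hB ▸ Lib.Thompson.isEA_map _ U.isEA) _) (by
      rw [Nat.card_congr (Subgroup.subgroupOfEquivOfLe hle).toEquiv, hB,
        Subgroup.card_map_of_injective (f := (MulAut.conj g⁻¹).toMonoidHom) (MulAut.conj g⁻¹).injective, U.card_K]
      norm_num)
  refine ⟨g * c, Subgroup.mem_normalizer_fintype (fun k hk => ?_), ?_⟩
  · obtain ⟨a, ha, rfl⟩ := hk
    have hmem : MulAut.conj c a ∈ B.subgroupOf _ := hc ▸ ⟨a, ha, rfl⟩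
    rw [Subgroup.mem_subgroupOf, hB] at hmem
    obtain ⟨k', hk', e'⟩ := hmem
    simp only [MulEquiv.coe_toMonoidHom, MulAut.conj_apply, inv_inv, Subgroup.coe_mul, Subgroup.coe_inv] at e'
    show (g * c) * (a : G) * (g * c)⁻¹ ∈ U.K
    rwa [show (g * c) * (a : G) * (g * c)⁻¹ = g * ((c : G) * a * (c : G)⁻¹) * g⁻¹ by group, ← e',
      show g * (g⁻¹ * k' * g) * g⁻¹ = k' by group]
  · rw [show g * c * d * (g * c)⁻¹ = g * ((c : G) * d * (c : G)⁻¹) * g⁻¹ by group, mem_centralizer_iff.2 c.2]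

theorem orb_symm {x y : G} (hx : x ∈ U.X) (hy : y ∈ U.X) : (U.orb x y).ncard = (U.orb y x).ncard := by
  obtain ⟨N, hN⟩ : ∃ N, N = Subgroup.normalizer (U.K : Set G) := ⟨_, rfl⟩
  obtain ⟨Cx, hCx⟩ : ∃ Cx : G → Subgroup G, ∀ a, Cx a = N ⊓ Subgroup.centralizer ({a} : Set G) :=
    ⟨_, fun _ => rfl⟩
  have hmem : ∀ {n a : G}, n ∈ Cx a ↔ n ∈ N ∧ n * a * n⁻¹ = a := fun {n a} => by
    rw [hCx, Subgroup.mem_inf, Subgroup.mem_centralizer_singleton_iff, mul_inv_eq_iff_eq_mul]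
  have hN1 : ∀ a ∈ U.X, Nat.card N = Nat.card U.X * Nat.card (Cx a) := fun a ha => by
    rw [hCx]
    refine Lib.Fischer.Relations.card_conj_orbit ha (fun n hn b hb => U.X_stable (hN ▸ hn) hb) fun b hb => ?_
    obtain ⟨n₁, h₁, e₁⟩ := U.X_trans ha
    obtain ⟨n₂, h₂, e₂⟩ := U.X_trans hb
    exact ⟨n₂ * n₁⁻¹, hN ▸ mul_mem h₂ (inv_mem h₁), by rw [← e₁, ← e₂]; group⟩
  have horb : ∀ a b : G, Nat.card (Cx a) = (U.orb a b).ncard * Nat.card ↥(Cx a ⊓ Cx b) := fun a b => by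
    have hb : b ∈ U.orb a b := ⟨1, one_mem _, by simp, by simp⟩
    have h := Lib.Fischer.Relations.card_conj_orbit (K := Cx a) hb (fun n hn w hw => ?_) (fun w hw => ?_)
    · rw [Nat.card_coe_set_eq] at h
      rw [h]
      congr 2
      rw [hCx b, ← inf_assoc, inf_eq_left.2 (show Cx a ≤ N from fun n hn => (hmem.1 hn).1)]
    · obtain ⟨m, hm, hma, rfl⟩ := hw
      refine ⟨n * m, mul_mem (hN ▸ (hmem.1 hn).1) hm, ?_, by group⟩
      rw [show n * m * a * (n * m)⁻¹ = n * (m * a * m⁻¹) * n⁻¹ by group, hma, (hmem.1 hn).2]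
    · obtain ⟨m, hm, hma, rfl⟩ := hw
      exact ⟨m, hmem.2 ⟨hN ▸ hm, hma⟩, rfl⟩
  have h1 := hN1 x hx
  have h2 := hN1 y hy
  have hpos : 0 < Nat.card U.X := by
    haveI : Nonempty U.X := ⟨⟨d, U.d_mem_X⟩⟩
    exact Nat.card_pos
  have hxy : Nat.card (Cx x) = Nat.card (Cx y) := Nat.eq_of_mul_eq_mul_left hpos (h1.symm.trans h2)
  rw [horb x y, horb y x, inf_comm (Cx y)] at hxy
  exact Nat.eq_of_mul_eq_mul_right Nat.card_pos hxy

/-- Membership of a class in the conjugates is all or nothing. -/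
theorem class_X {l : List ℕ} (hl : l ∈ classList) {u v : ℕ} (hu : u ∈ l) (hv : v ∈ l) (h : U.e u ∈ U.X) :
    U.e v ∈ U.X := by
  obtain ⟨n, hn, -, e⟩ := U.class_trans hl hu hv
  exact e ▸ U.X_stable hn h

end Setup

end Cfsg.Lib.CosetEnum.Fi22Two
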