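import Cfsg.Agent.Lib.CosetEnum.Fi22Two.Cover
import Cfsg.Agent.Lib.CosetEnum.Groups.Fi22Simple
import Cfsg.Agent.Lib.CosetEnum.Fi22Mult.Valid

/-!
# In a perfect double cover of Fi22 the twenty-two lifts have a product relation with the central involution
-/

set_option autoImplicit false
set_option linter.unusedSectionVars false
set_option maxRecDepth 100000

namespace Cfsg.Lib.CosetEnum.Fi22Two

open Fi22Norm (Fi22Tab)
open Fi22U62 (tabP)
open Fi22Out (pts)
open scoped commutatorElement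

variable {Q : Type*} [Group Q] [Finite Q] {E : Set Q}
variable {C : Type*} [Group C] [Finite C] {π : C →* Q} {z : C}
variable (T : Fi22Tab Q E) (L : T.A.Lifts π) (hd : IsDouble π z)
include hd

/-- Sequences conjugate to targets with vanishing coordinates have product one. -/
theorem seven_one (hL : IsCoord z T L vec) {m t w : List ℕ} (hlen : m.length = t.length)
    (hw : ∀ g ∈ w, g < 9)
    (hm : ∀ i < m.length, t.getD i 0 < 22 ∧ m.getD i 0 < 3510 ∧
      twalk tabP 9 w (m.getD i 0) = clique.getD (t.getD i 0) 0)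
    (h0 : (t.map fun j => vec.getD j 0).foldr Nat.xor 0 = 0) : L.prodSeq m = 1 := by
  obtain ⟨c, hc⟩ := hd.surj (wordVal T.A.x w)
  have key : ∀ (m t : List ℕ), m.length = t.length →
      (∀ i < m.length, t.getD i 0 < 22 ∧ m.getD i 0 < 3510 ∧
        twalk tabP 9 w (m.getD i 0) = clique.getD (t.getD i 0) 0) →
      c * L.prodSeq m * c⁻¹ = ev11 z T L ((t.map fun j => vec.getD j 0).foldr Nat.xor 0) := by
    intro m
    induction m with
    | nil =>
      intro t ht _
      rw [List.length_nil] at ht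
      rw [List.eq_nil_of_length_eq_zero ht.symm]
      simp [TransTable.Lifts.prodSeq, ev11_zero T L hd]
    | cons a m ih =>
      intro t ht hcond
      obtain ⟨b, t, rfl⟩ := List.exists_cons_of_length_pos (l := t) (by rw [← ht]; simp)
      have h0 := hcond 0 (by simp)
      simp only [List.getD_cons_zero] at h0
      obtain ⟨hb, ha, hab⟩ := h0
      have ih' := ih t (by simpa using ht) fun i hi => by
        have := hcond (i + 1) (by simpa using hi)
        simpa using this
      rw [show (a :: m) = [a] ++ m from rfl, L.prodSeq_append, List.map_cons, List.foldr_cons]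
      show _ = ev11 z T L (_ ^^^ _)
      rw [ev11_xor T L hd, ← ih', ← (hL.2 b hb).2, genL_eq T L hb]
      have e : L.prodSeq [a] = L.Y ⟨a, ha⟩ := by
        simp [TransTable.Lifts.prodSeq, TransTable.Lifts.val, ha]
      rw [e, show c * (L.Y ⟨a, ha⟩ * L.prodSeq m) * c⁻¹ = (c * L.Y ⟨a, ha⟩ * c⁻¹) * (c * L.prodSeq m * c⁻¹) by group,
        equivariant T L hd, hc]
      congr 2
      refine Fin.ext ?_
      rw [T.A.walk_apply (fun g hg => T.hk.symm ▸ hw g hg), T.hZ, T.hk]
      exact hab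
  have h := key m t hlen hm
  rw [h0, ev11_zero T L hd, conj_eq_one_iff] at h
  exact h

/-- The lifts of the generators do not satisfy all relators. -/
theorem not_coord_vec (hperf : commutator C = ⊤) : ¬ IsCoord z T L vec := by
  intro hL
  have hk0 : 0 < T.A.k := by rw [T.hk]; norm_num
  have hexp : ∀ c, π c = 1 → c * c = 1 := fun c hc => by
    rcases (hd.ker_iff c).1 hc with rfl | rfl
    exacts [one_mul 1, hd.sq]
  let N := Fi22Pres.numbering
  have hkeps : N.k ≤ eps := by decide
  have hws : (Fi22Mult.words.all fun w => w.all fun g => Nat.blt g T.A.k) = true := by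
    rw [T.hk]; exact Fi22Mult.words_ok
  have hws' : (moveWords.all fun w => w.all fun g => Nat.blt g T.A.k) = true := by
    rw [T.hk]; exact moveWords_ok
  have hlt : ∀ r ∈ Fi22Pres.extra, ∀ g ∈ r, g < T.A.k := by rw [T.hk]; decide +kernel
  have hm1 : Fi22Mult.relSpider ∈ Fi22Pres.extra := by decide +kernel
  have hm2 : Fi22Pres.extra.getD 1 [] ∈ Fi22Pres.extra := by decide +kernel
  have hm3 : Fi22Pres.extra.getD 2 [] ∈ Fi22Pres.extra := by decide +kernel
  obtain ⟨h78, hl1, hl2, hc1, hc2, hx1, hx2⟩ := seven_ok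
  simp only [List.all_eq_true, List.mem_append, Nat.blt_eq] at h78
  simp only [List.all_eq_true, List.mem_range, Bool.and_eq_true, Nat.blt_eq, Nat.beq_eq, and_assoc] at hc1 hc2
  have hside : ∀ {r P m t w : List ℕ} {ops : List (ℕ × ℕ)}, r ∈ Fi22Pres.extra →
      runSeq tabP 9 (pts.getD 0 0) moveWords ops (seqOf pts r) m = true →
      m.length = t.length → (∀ g ∈ w, g < 9) →
      (∀ i < m.length, t.getD i 0 < 22 ∧ m.getD i 0 < 3510 ∧
        twalk tabP 9 w (m.getD i 0) = clique.getD (t.getD i 0) 0) →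
      (t.map fun j => vec.getD j 0).foldr Nat.xor 0 = 0 → wordVal L.y r = 1 := by
    intro r P m t w ops hr hrun hlen hw hm h0
    rw [L.wordVal_y (hlt r hr), ← L.run_prod hk0 hws' (A := T.A) (ops := ops) (r := m)
      (T.A.seqOf_lt (hlt r hr)) (by rw [T.hZ, T.hk, T.hp]; exact hrun)]
    exact seven_one T L hd hL hlen hw hm h0
  have hleft : wordVal L.y (Fi22Pres.extra.getD 1 []) = 1 :=
    hside (P := []) hm2 leftProg_run hl1 (fun g hg => h78 g (Or.inl hg)) hc1 hx1
  have hright : wordVal L.y (Fi22Pres.extra.getD 2 []) = 1 :=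
    hside (P := []) hm3 rightProg_run hl2 (fun g hg => h78 g (Or.inr hg)) hc2 hx2
  have hspider : wordVal L.y Fi22Mult.relSpider = 1 := by
    have h' := L.run_prod hk0 hws
      (q := seqOf T.A.pts Fi22Mult.relSpider ++ seqOf T.A.pts Fi22Mult.relSpider ++ seqOf T.A.pts Fi22Mult.relSpider)
      (r := []) (ops := Fi22Mult.progSpider)
      (fun i hi => by
        simp only [List.mem_append, or_self] at hi
        exact T.A.seqOf_lt (hlt _ hm1) i hi) (by rw [T.hZ, T.hk, T.hp]; exact Fi22Mult.spider_run)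
    rw [L.prodSeq_append, L.prodSeq_append, ← L.wordVal_y (hlt _ hm1)] at h'
    have hsq : wordVal L.y Fi22Mult.relSpider * wordVal L.y Fi22Mult.relSpider = 1 := by
      refine hexp _ ?_
      obtain ⟨F, hF⟩ : ∃ F, F = wordVal L.y Fi22Mult.relSpider := ⟨_, rfl⟩
      rw [← hF] at h' ⊢
      have hπ : π F = wordVal T.A.x Fi22Mult.relSpider := hF ▸ L.proj_word (hlt _ hm1)
      rw [hπ]
      refine (T.A.eq_of_sameOK T.center (u := Fi22Mult.relSpider) (v := []) ?_).trans rfl
      rw [T.hZ, T.hk, T.hp]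
      decide +kernel
    rw [hsq, one_mul] at h'
    exact h'.symm
  have hrel : ∀ r ∈ N.pairs ++ Fi22Pres.extra, wordVal L.y r = 1 := by
    intro r hr
    rcases List.mem_append.1 hr with hr | hr
    · exact (L.evens hk0 hws (by rw [T.hZ, T.hk, T.hp]; exact Fi22Mult.pairs_ok) r hr).1
    · have hall : ∀ r ∈ Fi22Pres.extra, r = Fi22Mult.relSpider ∨ r = Fi22Pres.extra.getD 1 [] ∨
          r = Fi22Pres.extra.getD 2 [] := by decide +kernel
      rcases hall r hr with rfl | rfl | rfl <;> assumption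
  have h := N.lift_eq_one hkeps L.y (Fi22Pres.map_extra L.y L.y_sq) hrel
  let φ : Cfsg.Spor.Fi22 →* C := PresentedGroup.toGroup h
  have hφ : ∀ g < 9, L.y g ∈ φ.range := fun g hg => by
    refine ⟨PresentedGroup.of (N.letter g), ?_⟩
    show PresentedGroup.toGroup h (PresentedGroup.of (N.letter g)) = _
    rw [PresentedGroup.toGroup.of, N.num_letter g (show g < N.k from hg)]
  have hmap : φ.range.map π = ⊤ := by
    rw [eq_top_iff, ← T.A.gen, Subgroup.closure_le]
    rintro _ ⟨g, hg, rfl⟩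
    exact ⟨L.y g, hφ g (T.hk ▸ hg), L.proj_y hg⟩
  have htop : φ.range = ⊤ := by
    rw [eq_top_iff, ← hperf, commutator_def, Subgroup.commutator_le]
    intro a _ b _
    obtain ⟨a', ha', ea⟩ := (hmap.symm ▸ Subgroup.mem_top (π a) : π a ∈ φ.range.map π)
    obtain ⟨b', hb', eb⟩ := (hmap.symm ▸ Subgroup.mem_top (π b) : π b ∈ φ.range.map π)
    obtain ⟨u, hu, rfl⟩ : ∃ u, (∀ c, Commute u c) ∧ a = a' * u := by
      rcases hd.eq_or ea.symm with e | e
      · exact ⟨1, fun c => Commute.one_left c, by rw [e, mul_one]⟩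
      · exact ⟨z, hd.central, e⟩
    obtain ⟨v, hv, rfl⟩ : ∃ v, (∀ c, Commute v c) ∧ b = b' * v := by
      rcases hd.eq_or eb.symm with e | e
      · exact ⟨1, fun c => Commute.one_left c, by rw [e, mul_one]⟩
      · exact ⟨z, hd.central, e⟩
    have e : ⁅a' * u, b' * v⁆ = ⁅a', b'⁆ := by
      rw [commutatorElement_def, commutatorElement_def, mul_inv_rev, mul_inv_rev]
      calc a' * u * (b' * v) * (u⁻¹ * a'⁻¹) * (v⁻¹ * b'⁻¹)
          = a' * (u * (b' * v)) * u⁻¹ * a'⁻¹ * v⁻¹ * b'⁻¹ := by group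
        _ = a' * b' * (v * a'⁻¹) * v⁻¹ * b'⁻¹ := by rw [(hu _).eq]; group
        _ = a' * b' * a'⁻¹ * b'⁻¹ := by rw [(hv _).eq]; group
    rw [e, commutatorElement_def]
    exact mul_mem (mul_mem (mul_mem ha' hb') (inv_mem ha')) (inv_mem hb')
  have hFi : Cfsg.IsFi22 Cfsg.Spor.Fi22 := Fi22Pres.isFi22
  have : Finite Cfsg.Spor.Fi22 := Nat.finite_of_card_ne_zero (by rw [hFi.2]; decide)
  have h1 := Nat.card_le_card_of_surjective φ (MonoidHom.range_eq_top.1 htop)
  have h2 := hd.card_comap (⊤ : Subgroup Q)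
  rw [Subgroup.comap_top, Subgroup.card_top, Subgroup.card_top, T.card] at h2
  rw [h2, hFi.2] at h1
  norm_num at h1

/-- Lifts with the standard coordinates. -/
theorem exists_coord_std (hperf : commutator C = ⊤) (L₀ : T.A.Lifts π) :
    ∃ L' : T.A.Lifts π, IsCoord z T L' coord := by
  obtain ⟨tb, htb, hL⟩ := exists_coord T L₀ hd
  obtain ⟨i, hi, rfl⟩ := List.mem_iff_getElem.1 htb
  obtain ⟨h0, h1, hlen, h3, h2⟩ := tables_flip
  have hlow : ∀ k ∈ [2, 3], ∀ j < 22, (tables.getD k []).getD j 0 % 1024 = vec.getD j 0 := by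
    decide +kernel
  rw [← List.getD_eq_getElem _ [] hi] at hL
  rw [hlen] at hi
  interval_cases i
  · exact absurd (h0 ▸ hL) (not_coord_vec T L₀ hd hperf)
  · exact ⟨L₀, h1 ▸ hL⟩
  · exact ⟨flipLifts T L₀ hd, h2 ▸ isCoord_flip T L₀ hd hL (hlow 2 (by simp))⟩
  · exact absurd (h3 ▸ isCoord_flip T L₀ hd hL (hlow 3 (by simp))) (not_coord_vec T _ hd hperf)

end Cfsg.Lib.CosetEnum.Fi22Two
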