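import Cfsg.Agent.Lib.CosetEnum.Fi22Two.Basic

/-!
# A Sylow 2-subgroup of Fi22 and its elementary abelian subgroups
-/

set_option autoImplicit false
set_option linter.unusedSectionVars false
set_option maxRecDepth 20000

namespace Cfsg.Lib.CosetEnum.Fi22Two

open Fi22Norm (Fi22Tab)
open Fi22U62 (tabP)
open Fi22Out (pts)

theorem perm_length : (perms.all fun h => Nat.beq h.length 22) = true := by decide +kernel

theorem vec_perm : (List.range 22).all (fun j => (vec.getD j 0 != 0)) = true := by decide +kernel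

theorem apart_distinct : ((List.range 5).all fun k => (List.range 5).all fun l => Nat.beq k l ||
    ([invols.getD (apart.getD k (0, 0)).1 [], invols.getD (apart.getD k (0, 0)).2 []].all fun h =>
      !(h == invols.getD (apart.getD l (0, 0)).1 []) && !(h == invols.getD (apart.getD l (0, 0)).2 []))) = true := by
  decide +kernel

variable {G : Type*} [Group G] [Finite G] {D : Set G} (T : Fi22Tab G D)

/-- An element permutes the clique as a list says. -/
def PermBy (g : G) (h : List ℕ) : Prop :=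
  ∀ i, ∀ hi : i < 22, ∃ hj : h.getD i 0 < 22, T.A.f g (P i hi) = P (h.getD i 0) hj

theorem idPerm_getD {i : ℕ} (hi : i < 22) : idPerm.getD i 0 = i := by simp [idPerm, hi]

theorem P_congr {i j : ℕ} (h : i = j) (hi : i < 22) (hj : j < 22) : P i hi = P j hj := by subst h; rfl

theorem permBy_one : PermBy T 1 idPerm := fun i hi =>
  ⟨(idPerm_getD hi).symm ▸ hi, by
    rw [map_one, Equiv.Perm.one_apply]
    exact P_congr (idPerm_getD hi).symm _ _⟩

theorem comp_getD (a b : List ℕ) {i : ℕ} (hi : i < 22) : (comp a b).getD i 0 = a.getD (b.getD i 0) 0 := by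
  simp [comp, hi]

theorem PermBy.mul {a b : G} {g h : List ℕ} (ha : PermBy T a g) (hb : PermBy T b h) :
    PermBy T (a * b) (comp g h) := fun i hi => by
  obtain ⟨hj, e⟩ := hb i hi
  obtain ⟨hk, e'⟩ := ha _ hj
  exact ⟨(comp_getD g h hi).symm ▸ hk, by
    rw [map_mul, Equiv.Perm.mul_apply, e, e']
    exact P_congr (comp_getD g h hi).symm _ _⟩

theorem P_inj {i j : ℕ} {hi : i < 22} {hj : j < 22} (h : P i hi = P j hj) : i = j := by
  have e : clique.getD i 0 = clique.getD j 0 := congrArg Fin.val h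
  have h1 := clique_nodup.2.1
  rw [List.getD_eq_getElem _ _ (h1.symm ▸ hi), List.getD_eq_getElem _ _ (h1.symm ▸ hj)] at e
  exact clique_nodup.1.getElem_inj_iff.1 e

theorem perms_len {h : List ℕ} (hh : h ∈ perms) : h.length = 22 := by
  simpa using List.all_eq_true.1 perm_length h hh

theorem PermBy.unique {a : G} {g h : List ℕ} (hg : PermBy T a g) (hh : PermBy T a h) (lg : g.length = 22)
    (lh : h.length = 22) : g = h := by
  refine List.ext_getElem (lg.trans lh.symm) fun i h1 h2 => ?_
  obtain ⟨_, e1⟩ := hg i (lg ▸ h1)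
  obtain ⟨_, e2⟩ := hh i (lg ▸ h1)
  have := P_inj (e1.symm.trans e2)
  rwa [List.getD_eq_getElem _ _ h1, List.getD_eq_getElem _ _ h2] at this

theorem permBy_of_check {w h : List ℕ} (hw : permOK tabP 9 clique w h = true) :
    PermBy T (wordVal T.A.x w) h := fun i hi => by
  simp only [permOK, Bool.and_eq_true, List.all_eq_true, Nat.blt_eq, List.mem_range, Nat.beq_eq] at hw
  obtain ⟨h1, h2⟩ := hw.2 i hi
  refine ⟨h1, Fin.ext ?_⟩
  rw [T.A.walk_apply (fun g hg => T.hk.symm ▸ hw.1 g hg), T.hZ, T.hk]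
  exact h2

/-- A generator of the Sylow subgroup. -/
noncomputable def lift (j : ℕ) : G := wordVal T.A.x (gens.getD j [])

theorem gen_check {j : ℕ} (hj : j < 7) : permOK tabP 9 clique (gens.getD j []) (genPerm.getD j []) = true ∧
    genPerm.getD j [] ∈ genPerm := by
  refine ⟨List.all_eq_true.1 gens_ok.1 j (List.mem_range.2 hj), ?_⟩
  rw [List.getD_eq_getElem _ _ (gens_ok.2.2.symm ▸ hj)]
  exact List.getElem_mem _

/-- The generators of the Sylow subgroup. -/
def twoGens : Set G := {g | (∃ j < 7, lift T j = g) ∨ g ∈ base T}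

/-- A Sylow 2-subgroup. -/
noncomputable def twoGroup : Subgroup G := Subgroup.closure (twoGens T)

theorem base_le : base T ≤ twoGroup T := fun _ hg => Subgroup.subset_closure (Or.inr hg)

theorem permBy_base {g : G} (hg : g ∈ base T) : PermBy T g idPerm := fun i hi => by
  refine ⟨(idPerm_getD hi).symm ▸ hi, ?_⟩
  rw [show T.A.f g (P i hi) = P i hi from (T.A.commute_delta_iff g _).1 (by
    rw [delta_P T hi]; exact base_comm T hg (gen_mem T hi))]
  exact P_congr (idPerm_getD hi).symm _ _

theorem mem_base_of_permBy {g : G} (hg : PermBy T g idPerm) : g ∈ base T := by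
  refine centralizer_base T g fun k hk => ?_
  have hb := (basis_spec hk).1
  obtain ⟨hj, e⟩ := hg _ hb
  rw [← delta_P T hb]
  refine ((T.A.commute_delta_iff g _).2 ?_)
  rw [e]
  exact P_congr (idPerm_getD hb) _ _

theorem exists_perm {g : G} (hg : g ∈ twoGroup T) : ∃ h ∈ perms, PermBy T g h := by
  rw [twoGroup, ← Subgroup.mem_toSubmonoid, Subgroup.closure_toSubmonoid_of_finite] at hg
  induction hg using Submonoid.closure_induction_left with
  | one => exact ⟨idPerm, by simpa using closed_ok.1, permBy_one T⟩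
  | mul_left a ha b hb ih =>
    obtain ⟨h, hh, hp⟩ := ih
    rcases ha with ⟨j, hj, rfl⟩ | ha
    · obtain ⟨h1, h2⟩ := gen_check hj
      refine ⟨_, ?_, (permBy_of_check T h1).mul T hp⟩
      simpa using List.all_eq_true.1 (List.all_eq_true.1 closed_ok.2 _ h2) h hh
    · refine ⟨h, hh, ?_⟩
      have := (permBy_base T ha).mul T hp
      convert this using 1
      refine List.ext_getElem (by simp [comp, perms_len hh]) fun i h1 h2 => ?_
      have hi : i < 22 := perms_len hh ▸ h1
      obtain ⟨hj, -⟩ := hp i hi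
      rw [← List.getD_eq_getElem _ 0 h1, ← List.getD_eq_getElem _ 0 h2, comp_getD _ _ hi]
      exact (idPerm_getD hj).symm

theorem card_twoGroup : Nat.card (twoGroup T) = 2 ^ 17 := by
  have hw : ∀ i : Fin 128, wordVal T.A.x (prodWord gens (permWord.getD i.1 [])) ∈ twoGroup T ∧
      PermBy T (wordVal T.A.x (prodWord gens (permWord.getD i.1 []))) (perms.getD i.1 []) := by
    intro i
    have h := List.all_eq_true.1 permWord_ok i.1 (List.mem_range.2 i.2)
    rw [Bool.and_eq_true, List.all_eq_true] at h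
    refine ⟨?_, permBy_of_check T h.2⟩
    have h1 : ∀ j ∈ permWord.getD i.1 [], j < 7 := fun j hj => Nat.blt_eq ▸ (by simpa using h.1 j hj)
    generalize permWord.getD i.1 [] = u at h1
    induction u with
    | nil => exact one_mem _
    | cons j u ih =>
      rw [show prodWord gens (j :: u) = gens.getD j [] ++ prodWord gens u from rfl, wordVal_append]
      exact mul_mem (ih fun a ha => h1 a (by simp [ha]))
        (Subgroup.subset_closure (Or.inl ⟨j, h1 j (by simp), rfl⟩))
  have hlen : ∀ i : Fin 128, perms.getD i.1 [] ∈ perms ∧ (perms.getD i.1 []).length = 22 := fun i => by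
    have : perms.getD i.1 [] ∈ perms := by
      rw [List.getD_eq_getElem _ _ (perms_ok.2.symm ▸ i.2)]; exact List.getElem_mem _
    exact ⟨this, perms_len this⟩
  let f : Fin 128 × base T → twoGroup T := fun u => ⟨_, mul_mem (hw u.1).1 (base_le T u.2.2)⟩
  have hperm : ∀ u : Fin 128 × base T, PermBy T (f u).1 (perms.getD u.1.1 []) := fun u => by
    intro i hi
    obtain ⟨hj, e⟩ := (permBy_base T u.2.2) i hi
    obtain ⟨hk, e'⟩ := (hw u.1).2 i hi
    refine ⟨hk, ?_⟩
    show T.A.f (_ * _) _ = _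
    rw [map_mul, Equiv.Perm.mul_apply, e, ← e']
    exact congrArg _ (P_congr (idPerm_getD hi) _ _)
  have hf : Function.Bijective f := by
    refine ⟨fun u v huv => ?_, fun g => ?_⟩
    · have h1 := (hperm u).unique T (huv ▸ hperm v) (hlen u.1).2 (hlen v.1).2
      have e1 : u.1 = v.1 := by
        rw [List.getD_eq_getElem _ _ (perms_ok.2.symm ▸ u.1.2), List.getD_eq_getElem _ _ (perms_ok.2.symm ▸ v.1.2)] at h1
        exact Fin.ext (perms_ok.1.getElem_inj_iff.1 h1)
      have h2 : (f u).1 = (f v).1 := congrArg Subtype.val huv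
      simp only [f, e1, mul_right_inj] at h2
      exact Prod.ext e1 (Subtype.ext h2)
    · obtain ⟨h, hh, hp⟩ := exists_perm T g.2
      obtain ⟨i, hi, rfl⟩ := List.mem_iff_getElem.1 hh
      obtain ⟨hwm, hwp⟩ := hw ⟨i, perms_ok.2 ▸ hi⟩
      simp only [List.getD_eq_getElem _ _ hi] at hwp
      obtain ⟨W, hW⟩ : ∃ W, W = wordVal T.A.x (prodWord gens (permWord.getD i [])) := ⟨_, rfl⟩
      simp only [← hW] at hwp hwm
      refine ⟨⟨⟨i, perms_ok.2 ▸ hi⟩, ⟨W⁻¹ * g.1, ?_⟩⟩, Subtype.ext ?_⟩
      · refine mem_base_of_permBy T fun k hk => ?_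
        obtain ⟨hj, e⟩ := hp k hk
        obtain ⟨hj', e'⟩ := hwp k hk
        refine ⟨(idPerm_getD hk).symm ▸ hk, ?_⟩
        rw [map_mul, Equiv.Perm.mul_apply, e, map_inv, Equiv.Perm.inv_def, Equiv.symm_apply_eq,
          P_congr (idPerm_getD hk) _ hk]
        exact e'.symm
      · show _ * (W⁻¹ * g.1) = g.1
        rw [← hW, mul_inv_cancel_left]
  rw [← Nat.card_congr (Equiv.ofBijective f hf), Nat.card_prod, Nat.card_fin, card_base]
  norm_num

theorem conj_ev {g : G} {h : List ℕ} (hg : PermBy T g h) :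
    ∀ {k : ℕ}, k ≤ 10 → ∀ v, g * ev T k v * g⁻¹ = ev T 10 (act basisIdx vec h k v)
  | 0, _, v => by simp [ev, act]
  | k + 1, hk, v => by
    have ih := conj_ev hg (k := k) (by omega) v
    rw [ev, act]
    cases v.testBit k
    · rw [if_neg (by simp), mul_one, cond_false, ih]
    · have hb := (basis_spec (k := k) (by omega)).1
      obtain ⟨hj, e⟩ := hg _ hb
      have h1 : g * gen T (basisIdx.getD k 0) * g⁻¹ = ev T 10 (vec.getD (h.getD (basisIdx.getD k 0) 0) 0) := by
        rw [← delta_P T hb, ← T.A.delta_apply, e, delta_P T hj, (ev_vec T hj).2]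
      rw [if_pos rfl, cond_true, ← conj_mul, ih, h1]
      exact (ev_xor T le_rfl _ _).symm

theorem act_lt {g : G} {h : List ℕ} (hg : PermBy T g h) : ∀ {k : ℕ}, k ≤ 10 → ∀ v, act basisIdx vec h k v < 1024
  | 0, _, v => by simp [act]
  | k + 1, hk, v => by
    rw [act]
    cases v.testBit k
    · exact act_lt hg (by omega) v
    · exact Nat.xor_lt_two_pow (n := 10) (act_lt hg (by omega) v)
        (ev_vec T (hg _ (basis_spec (k := k) (by omega)).1).1).1

theorem fix_of_commute {g : G} {h : List ℕ} (hg : PermBy T g h) {v : ℕ} (hv : v < 1024)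
    (hc : Commute g (ev T 10 v)) : act basisIdx vec h 10 v = v := by
  refine ev_inj T (act_lt T hg le_rfl v) hv ?_
  rw [← conj_ev T hg le_rfl, hc.eq, mul_inv_cancel_right]

theorem image_card {S : Finset (List ℕ)} (hin : ∀ s ∈ S, s = idPerm ∨ s ∈ invols)
    (hcomm : ∀ a ∈ S, ∀ b ∈ S, comp a b = comp b a) : S.card ≤ 31 := by
  classical
  let pr : Fin 5 → List ℕ × List ℕ := fun k =>
    (invols.getD (apart.getD k.1 (0, 0)).1 [], invols.getD (apart.getD k.1 (0, 0)).2 [])
  have hpr : ∀ k, ((pr k).1 ∈ invols ∧ (pr k).2 ∈ invols) ∧ comp (pr k).1 (pr k).2 ≠ comp (pr k).2 (pr k).1 := by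
    intro k
    have hk : k.1 < apart.length := by rw [apart_ok.2.2]; exact k.2
    have h := List.all_eq_true.1 apart_ok.1 (apart.getD k.1 (0, 0))
      (by rw [List.getD_eq_getElem _ _ hk]; exact List.getElem_mem _)
    rw [Bool.and_eq_true, Bool.and_eq_true, Nat.blt_eq, Nat.blt_eq, Bool.not_eq_true', beq_eq_false_iff_ne] at h
    obtain ⟨⟨h1, h2⟩, h3⟩ := h
    refine ⟨⟨?_, ?_⟩, h3⟩
    · show invols.getD _ [] ∈ invols
      rw [List.getD_eq_getElem _ _ (fixed_ok.2.1.symm ▸ h1)]; exact List.getElem_mem _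
    · show invols.getD _ [] ∈ invols
      rw [List.getD_eq_getElem _ _ (fixed_ok.2.1.symm ▸ h2)]; exact List.getElem_mem _
  have hmeet : ∀ k l, k ≠ l → (pr k).1 ≠ (pr l).1 ∧ (pr k).1 ≠ (pr l).2 ∧ (pr k).2 ≠ (pr l).1 ∧
      (pr k).2 ≠ (pr l).2 := by
    intro k l hne
    have h := List.all_eq_true.1 (List.all_eq_true.1 apart_distinct k.1 (List.mem_range.2 k.2)) l.1
      (List.mem_range.2 l.2)
    rw [Bool.or_eq_true] at h
    have h' := h.resolve_left (fun e => hne (Fin.ext (Nat.eq_of_beq_eq_true e)))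
    simp only [List.all_cons, List.all_nil, Bool.and_true, Bool.and_eq_true, Bool.not_eq_true',
      beq_eq_false_iff_ne, and_assoc] at h'
    exact h'
  let ch : Fin 5 → List ℕ := fun k => if (pr k).1 ∈ S then (pr k).2 else (pr k).1
  have hch : ∀ k, ch k = (pr k).1 ∨ ch k = (pr k).2 := fun k => by simp only [ch]; split_ifs <;> simp
  have hnS : ∀ k, ch k ∉ S := fun k hS' => by
    simp only [ch] at hS'
    split_ifs at hS' with hA
    · exact (hpr k).2 (hcomm _ hA _ hS')
    · exact hA hS'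
  have hinj : Function.Injective ch := by
    intro k l hkl
    by_contra hne
    obtain ⟨h1, h2, h3, h4⟩ := hmeet k l hne
    rcases hch k with e | e <;> rcases hch l with e' | e' <;> rw [e, e'] at hkl <;> contradiction
  have hdis : Disjoint S (Finset.univ.image ch) := Finset.disjoint_right.2 fun s hs => by
    obtain ⟨k, -, rfl⟩ := Finset.mem_image.1 hs
    exact hnS k
  have hsub : S ∪ Finset.univ.image ch ⊆ (idPerm :: invols).toFinset := by
    refine Finset.union_subset (fun s hs => ?_) fun s hs => ?_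
    · rw [List.mem_toFinset, List.mem_cons]
      exact hin s hs
    · obtain ⟨k, -, rfl⟩ := Finset.mem_image.1 hs
      rw [List.mem_toFinset, List.mem_cons]
      rcases hch k with e | e <;> rw [e]
      exacts [Or.inr (hpr k).1.1, Or.inr (hpr k).1.2]
  have := (Finset.card_le_card hsub).trans (List.toFinset_card_le _)
  rw [Finset.card_union_of_disjoint hdis, Finset.card_image_of_injective _ hinj, Finset.card_univ,
    Fintype.card_fin, List.length_cons, fixed_ok.2.1] at this
  omega

theorem card_le_fix {B : Subgroup G} [Fintype B] (σ : B → List ℕ) (hσ : ∀ b, PermBy T b.1 (σ b))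
    {L : List ℕ} (hL : ∀ v < 1024, ev T 10 v ∈ B → v ∈ L) :
    Fintype.card B ≤ L.length * (Finset.univ.image σ).card := by
  classical
  refine Finset.card_le_mul_card_image _ _ fun s hs => ?_
  obtain ⟨b₀, -, rfl⟩ := Finset.mem_image.1 hs
  refine le_trans ?_ (List.toFinset_card_le L)
  have hex : ∀ b : B, ∃ v, σ b = σ b₀ → v < 1024 ∧ ev T 10 v = ((b₀⁻¹ * b : B) : G) := by
    intro b
    by_cases hb : σ b = σ b₀
    · obtain ⟨v, hv, e⟩ : ((b₀⁻¹ * b : B) : G) ∈ base T := by
        refine mem_base_of_permBy T fun k hk => ?_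
        obtain ⟨hj, e⟩ := hσ b k hk
        obtain ⟨hj', e'⟩ := hσ b₀ k hk
        refine ⟨(idPerm_getD hk).symm ▸ hk, ?_⟩
        rw [Subgroup.coe_mul, Subgroup.coe_inv, map_mul, Equiv.Perm.mul_apply, map_inv, Equiv.Perm.inv_def,
          Equiv.symm_apply_eq, e, P_congr (idPerm_getD hk) _ hk, e']
        exact P_congr (by rw [hb]) _ _
      exact ⟨v, fun _ => ⟨hv, e⟩⟩
    · exact ⟨0, fun e => absurd e hb⟩
  choose cd hcd using hex
  refine Finset.card_le_card_of_injOn cd (fun b hb => ?_) fun a ha b hb hab => ?_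
  · obtain ⟨h1, h2⟩ := hcd b (Finset.mem_filter.1 hb).2
    exact List.mem_toFinset.2 (hL _ h1 (h2 ▸ (b₀⁻¹ * b).2))
  · have h1 := (hcd a (Finset.mem_filter.1 ha).2).2
    rw [hab, (hcd b (Finset.mem_filter.1 hb).2).2] at h1
    exact (mul_right_injective _ (Subtype.ext h1)).symm

theorem small_of_ne {B : Subgroup G} (hB : B ≤ twoGroup T) (hE : Cfsg.IsElementaryAbelian 2 B)
    (hne : ¬ B ≤ base T) : Nat.card B < 1024 := by
  classical
  have : Fintype B := Fintype.ofFinite B
  choose σ hσm hσ using fun b : B => exists_perm T (hB b.2)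
  have hcomm : ∀ a b : B, comp (σ a) (σ b) = comp (σ b) (σ a) := fun a b => by
    refine ((hσ a).mul T (hσ b)).unique T ?_ (by simp [comp]) (by simp [comp])
    have e : (a : G) * b = b * a := congrArg Subtype.val (hE.1.is_comm.comm a b)
    rw [e]
    exact (hσ b).mul T (hσ a)
  have hin : ∀ b : B, σ b = idPerm ∨ σ b ∈ invols := fun b => by
    have h2 : comp (σ b) (σ b) = idPerm := by
      refine ((hσ b).mul T (hσ b)).unique T ?_ (by simp [comp]) (by simp [idPerm])
      rw [← pow_two, hE.2 _ b.2]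
      exact permBy_one T
    have h := List.all_eq_true.1 invols_ok _ (hσm b)
    rw [Bool.or_eq_true, Bool.or_eq_true, Bool.not_eq_true', beq_eq_false_iff_ne, beq_iff_eq,
      List.contains_eq_mem, decide_eq_true_eq] at h
    tauto
  obtain ⟨t, i, hi, ht⟩ : ∃ t : B, ∃ i < 35, σ t = invols.getD i [] := by
    obtain ⟨b, hb, hnb⟩ := SetLike.not_le_iff_exists.1 hne
    rcases hin ⟨b, hb⟩ with h | h
    · exact absurd (mem_base_of_permBy T (h ▸ hσ ⟨b, hb⟩)) hnb
    · obtain ⟨i, hi, e⟩ := List.mem_iff_getElem.1 h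
      exact ⟨⟨b, hb⟩, i, fixed_ok.2.1 ▸ hi, by rw [List.getD_eq_getElem _ _ hi, e]⟩
  have hfix : ∀ v < 1024, ev T 10 v ∈ B →
      v ∈ fixedVec.getD i [] ∧ ∀ u : B, act basisIdx vec (σ u) 10 v = v := by
    intro v hv hvB
    have hf : ∀ u : B, act basisIdx vec (σ u) 10 v = v := fun u =>
      fix_of_commute T (hσ u) hv (congrArg Subtype.val (hE.1.is_comm.comm u ⟨_, hvB⟩))
    refine ⟨?_, hf⟩
    have h := List.all_eq_true.1 (List.all_eq_true.1 fixed_ok.1 i (List.mem_range.2 hi)) v (List.mem_range.2 hv)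
    rw [Bool.or_eq_true, List.contains_eq_mem, decide_eq_true_eq] at h
    refine h.resolve_left fun e => ?_
    rw [← ht, hf t] at e
    simp at e
  have h64 : (fixedVec.getD i []).length ≤ 64 := by
    rw [List.getD_eq_getElem _ _ (fixed_ok.2.2.2.symm ▸ hi)]
    exact of_decide_eq_true (List.all_eq_true.1 fixed_ok.2.2.1 _ (List.getElem_mem _))
  rw [Nat.card_eq_fintype_card]
  by_cases h2 : ∀ b : B, σ b = idPerm ∨ σ b = σ t
  · have hS : (Finset.univ.image σ).card ≤ 2 := by
      refine (Finset.card_le_card (t := {idPerm, σ t}) fun s hs => ?_).trans Finset.card_le_two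
      obtain ⟨b, -, rfl⟩ := Finset.mem_image.1 hs
      simpa using h2 b
    calc Fintype.card B ≤ _ := card_le_fix T σ hσ fun v hv hvB => (hfix v hv hvB).1
      _ ≤ 64 * 2 := Nat.mul_le_mul h64 hS
      _ < 1024 := by norm_num
  push Not at h2
  obtain ⟨u, hu1, hu2⟩ := h2
  obtain ⟨j, hj, hu⟩ : ∃ j < 35, σ u = invols.getD j [] := by
    obtain ⟨j, hj, e⟩ := List.mem_iff_getElem.1 ((hin u).resolve_left hu1)
    exact ⟨j, fixed_ok.2.1 ▸ hj, by rw [List.getD_eq_getElem _ _ hj, e]⟩
  have h32 : ((fixedVec.getD i []).filter fun v =>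
      Nat.beq (act basisIdx vec (invols.getD j []) 10 v) v).length ≤ 32 := by
    have h := List.all_eq_true.1 (List.all_eq_true.1 pair_ok i (List.mem_range.2 hi)) j (List.mem_range.2 hj)
    rw [Bool.or_eq_true, Bool.or_eq_true, Bool.not_eq_true', beq_eq_false_iff_ne, decide_eq_true_eq] at h
    rcases h with (h | h) | h
    · exact absurd (by rw [hu, ht, Nat.eq_of_beq_eq_true h]) hu2
    · exact absurd (by rw [← ht, ← hu]; exact hcomm t u) h
    · exact h
  have h31 : (Finset.univ.image σ).card ≤ 31 := by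
    refine image_card (fun s hs => ?_) fun a ha b hb => ?_
    · obtain ⟨b, -, rfl⟩ := Finset.mem_image.1 hs
      exact hin b
    · obtain ⟨a, -, rfl⟩ := Finset.mem_image.1 ha
      obtain ⟨b, -, rfl⟩ := Finset.mem_image.1 hb
      exact hcomm a b
  calc Fintype.card B ≤ _ := card_le_fix T σ hσ (L := (fixedVec.getD i []).filter fun v =>
        Nat.beq (act basisIdx vec (invols.getD j []) 10 v) v) fun v hv hvB =>
        List.mem_filter.2 ⟨(hfix v hv hvB).1, by rw [← hu, (hfix v hv hvB).2 u, Nat.beq_refl]⟩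
    _ ≤ 32 * 31 := Nat.mul_le_mul h32 h31
    _ < 1024 := by norm_num

end Cfsg.Lib.CosetEnum.Fi22Two
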